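import Groth.Agent.Coherent.K739.GoodG

/-!
# Universally good quotients: the Reynolds operator on every open set

`GQ.exists_reynolds`: for every open `V` of `M` there is `r : Γ(R, π⁻¹V) →+ Γ(M, V)`, linear over `Γ(M, V)`, `r 1 = 1`,
invariant under `𝒢`, and `π^*(r y) = y` for invariant `y`; it is compatible with base change (`GQ.reynolds_compat`).
`GoodS.exists_stable`: over the good affine opens the operator preserves stable subspaces with coefficients.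
-/

set_option autoImplicit false
set_option linter.unusedVariables false
set_option linter.unusedSectionVars false
set_option backward.isDefEq.respectTransparency false
set_option backward.isDefEq.respectTransparency.types false

universe v u
open CategoryTheory CategoryTheory.Limits AlgebraicGeometry TopologicalSpace K739.RdAlg Opposite TensorProduct

namespace K739.GoodQ

variable {K : Type v} [CommRing K] {R M R' M' : Scheme.{u}}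
variable {κ : K →+* Γ(M, ⊤)} {π : R ⟶ M} {𝒢 : Set (R ⟶ R)}

/-- compatibility with restriction -/
theorem rd_res (hγ : ∀ γ ∈ 𝒢, γ ≫ π = π) {W W' : M.Opens} (e : W' ≤ W)
    {r : Γ(R, π ⁻¹ᵁ W) → Γ(M, W)} (hr : Rd (π.app W).hom (kap κ W) (Sec π 𝒢 W) r)
    {r' : Γ(R, π ⁻¹ᵁ W') → Γ(M, W')} (hr' : Rd (π.app W').hom (kap κ W') (Sec π 𝒢 W') r')
    (e' : π ⁻¹ᵁ W' ≤ π ⁻¹ᵁ W) (c : Γ(R, π ⁻¹ᵁ W)) : r' (rs e' c) = rs e (r c) := by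
  refine hr.compat hr' (rs e) (rs e') (fun s => rs_app π e e' s) ?_ c
  rintro g ⟨γ, hγ', e1, rfl⟩
  refine ⟨_, ⟨γ, hγ', le_inv (hγ γ hγ') W', rfl⟩, fun c => ?_⟩
  have : R.presheaf.map (homOfLE e').op ≫ γ.appLE _ _ (le_inv (hγ γ hγ') W') =
      γ.appLE _ _ e1 ≫ R.presheaf.map (homOfLE e').op := by
    rw [Scheme.Hom.appLE_map, Scheme.Hom.map_appLE]
  exact congr($this c)

/-- `r` is the Reynolds operator over the open `V`. -/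
def IsRey (κ : K →+* Γ(M, ⊤)) (π : R ⟶ M) (𝒢 : Set (R ⟶ R)) (V : M.Opens) (r : Γ(R, π ⁻¹ᵁ V) → Γ(M, V)) : Prop :=
  ∀ (W : M.Opens) (h : W ≤ V) (_ : GoodS κ π 𝒢 W) (rW : Γ(R, π ⁻¹ᵁ W) → Γ(M, W))
    (_ : Rd (π.app W).hom (kap κ W) (Sec π 𝒢 W) rW) (h' : π ⁻¹ᵁ W ≤ π ⁻¹ᵁ V) (c : Γ(R, π ⁻¹ᵁ V)),
    rs h (r c) = rW (rs h' c)

section

variable (H : GQ κ π 𝒢)

include H

theorem GQ.exists_isRey (V : M.Opens) : ∃ r : Γ(R, π ⁻¹ᵁ V) → Γ(M, V), IsRey κ π 𝒢 V r := by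
  have key : ∀ c : Γ(R, π ⁻¹ᵁ V), ∃ s : Γ(M, V), ∀ (W : M.Opens) (h : W ≤ V) (_ : GoodS κ π 𝒢 W)
      (rW : Γ(R, π ⁻¹ᵁ W) → Γ(M, W)) (_ : Rd (π.app W).hom (kap κ W) (Sec π 𝒢 W) rW) (h' : π ⁻¹ᵁ W ≤ π ⁻¹ᵁ V),
      rs h s = rW (rs h' c) := by
    intro c
    let ι := {W : M.Opens // W ≤ V ∧ GoodS κ π 𝒢 W}
    choose r hr using fun W : ι => W.2.2.ex
    obtain ⟨s, hs, -⟩ := M.sheaf.existsUnique_gluing' (ι := ι) (fun W => W.1) V (fun W => homOfLE W.2.1) (by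
      intro x hx
      obtain ⟨W, h1, h2, h3⟩ := H.exists_le hx
      exact Opens.mem_iSup.2 ⟨⟨W, h2, h3⟩, h1⟩)
      (fun W => r W (rs (π.preimage_mono W.2.1) c)) (by
      intro W W'
      change rs (V := W.1) (W := W.1 ⊓ W'.1) inf_le_left _ = rs (V := W'.1) (W := W.1 ⊓ W'.1) inf_le_right _
      refine H.eq_of fun Z hZ hZg => ?_
      obtain ⟨rZ, hrZ⟩ := hZg.ex
      rw [rs_rs, rs_rs, ← rd_res H.inv _ (hr W) hrZ (π.preimage_mono (hZ.trans inf_le_left)),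
        ← rd_res H.inv _ (hr W') hrZ (π.preimage_mono (hZ.trans inf_le_right)), rs_rs, rs_rs])
    refine ⟨s, fun W h hW rW hrW h' => ?_⟩
    have h1 := hs ⟨W, h, hW⟩
    have h2 : r ⟨W, h, hW⟩ = rW := hrW.unique (hr ⟨W, h, hW⟩)
    rw [← h2]
    exact h1
  choose r hr using key
  exact ⟨r, fun W h hW rW hrW h' c => hr c W h hW rW hrW h'⟩

/-- local criterion -/
theorem GQ.rey_ext {V : M.Opens} {r : Γ(R, π ⁻¹ᵁ V) → Γ(M, V)} (hr : IsRey κ π 𝒢 V r) {c : Γ(R, π ⁻¹ᵁ V)} {s : Γ(M, V)}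
    (h : ∀ (W : M.Opens) (h : W ≤ V) (_ : GoodS κ π 𝒢 W) (rW : Γ(R, π ⁻¹ᵁ W) → Γ(M, W))
    (_ : Rd (π.app W).hom (kap κ W) (Sec π 𝒢 W) rW) (h' : π ⁻¹ᵁ W ≤ π ⁻¹ᵁ V), rW (rs h' c) = rs h s) : r c = s := by
  refine H.eq_of fun W hW hWg => ?_
  obtain ⟨rW, hrW⟩ := hWg.ex
  rw [hr W hW hWg rW hrW (π.preimage_mono hW), h W hW hWg rW hrW]

theorem GQ.rey_unique {V : M.Opens} {r r' : Γ(R, π ⁻¹ᵁ V) → Γ(M, V)} (hr : IsRey κ π 𝒢 V r)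
    (hr' : IsRey κ π 𝒢 V r') : r = r' :=
  funext fun c => H.rey_ext hr fun W h hW rW hrW h' => (hr' W h hW rW hrW h' c).symm

theorem GQ.rey_add {V : M.Opens} {r : Γ(R, π ⁻¹ᵁ V) → Γ(M, V)} (hr : IsRey κ π 𝒢 V r) (c d : Γ(R, π ⁻¹ᵁ V)) :
    r (c + d) = r c + r d :=
  H.rey_ext hr fun W h hW rW hrW h' => by
    rw [map_add, hrW.add, map_add, hr W h hW rW hrW h', hr W h hW rW hrW h']

theorem GQ.rey_one {V : M.Opens} {r : Γ(R, π ⁻¹ᵁ V) → Γ(M, V)} (hr : IsRey κ π 𝒢 V r) : r 1 = 1 :=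
  H.rey_ext hr fun W h hW rW hrW h' => by rw [map_one, hrW.one, map_one]

theorem GQ.rey_lin {V : M.Opens} {r : Γ(R, π ⁻¹ᵁ V) → Γ(M, V)} (hr : IsRey κ π 𝒢 V r) (s : Γ(M, V))
    (c : Γ(R, π ⁻¹ᵁ V)) : r ((π.app V).hom s * c) = s * r c :=
  H.rey_ext hr fun W h hW rW hrW h' => by
    rw [map_mul, rs_app π h h', hrW.lin, map_mul, hr W h hW rW hrW h']

theorem GQ.rey_app {V : M.Opens} {r : Γ(R, π ⁻¹ᵁ V) → Γ(M, V)} (hr : IsRey κ π 𝒢 V r) (s : Γ(M, V)) :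
    r ((π.app V).hom s) = s :=
  H.rey_ext hr fun W h hW rW hrW h' => by
    rw [rs_app π h h', hrW.app]

/-- commutation of `γ` with restriction -/
theorem GQ.rs_appLE {V W : M.Opens} (h' : π ⁻¹ᵁ W ≤ π ⁻¹ᵁ V) {γ : R ⟶ R} (hγ : γ ∈ 𝒢)
    (e : π ⁻¹ᵁ V ≤ γ ⁻¹ᵁ π ⁻¹ᵁ V) (c : Γ(R, π ⁻¹ᵁ V)) :
    rs h' ((γ.appLE _ _ e).hom c) = (γ.appLE _ _ (le_inv (H.inv γ hγ) W)).hom (rs h' c) := by
  have : γ.appLE _ _ e ≫ R.presheaf.map (homOfLE h').op =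
      R.presheaf.map (homOfLE h').op ≫ γ.appLE _ _ (le_inv (H.inv γ hγ) W) := by
    rw [Scheme.Hom.appLE_map, Scheme.Hom.map_appLE]
  exact congr($this c)

theorem GQ.rey_inv {V : M.Opens} {r : Γ(R, π ⁻¹ᵁ V) → Γ(M, V)} (hr : IsRey κ π 𝒢 V r) {γ : R ⟶ R} (hγ : γ ∈ 𝒢)
    (e : π ⁻¹ᵁ V ≤ γ ⁻¹ᵁ π ⁻¹ᵁ V) (c : Γ(R, π ⁻¹ᵁ V)) : r ((γ.appLE _ _ e).hom c) = r c :=
  H.rey_ext hr fun W h hW rW hrW h' => by
    rw [H.rs_appLE h' hγ, hrW.inv _ ⟨γ, hγ, _, rfl⟩, hr W h hW rW hrW h']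

theorem GQ.rey_of_inv {V : M.Opens} {r : Γ(R, π ⁻¹ᵁ V) → Γ(M, V)} (hr : IsRey κ π 𝒢 V r) {c : Γ(R, π ⁻¹ᵁ V)}
    (hc : ∀ γ ∈ 𝒢, ∀ e : π ⁻¹ᵁ V ≤ γ ⁻¹ᵁ π ⁻¹ᵁ V, (γ.appLE _ _ e).hom c = c) : (π.app V).hom (r c) = c := by
  -- check on the inverse images of the good opens
  refine R.sheaf.eq_of_locally_eq' (ι := {W : M.Opens // W ≤ V ∧ GoodS κ π 𝒢 W}) (fun W => π ⁻¹ᵁ W.1) (π ⁻¹ᵁ V)
    (fun W => homOfLE (π.preimage_mono W.2.1)) ?_ _ _ (fun W => ?_)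
  · intro x hx
    obtain ⟨W, h1, h2, h3⟩ := H.exists_le (V := V) (x := π x) hx
    exact Opens.mem_iSup.2 ⟨⟨W, h2, h3⟩, h1⟩
  · obtain ⟨W, hW, hWg⟩ := W
    obtain ⟨rW, hrW⟩ := hWg.ex
    have h' : π ⁻¹ᵁ W ≤ π ⁻¹ᵁ V := π.preimage_mono hW
    change rs h' _ = rs h' c
    rw [rs_app π hW h', hr W hW hWg rW hrW h']
    apply hrW.of_inv
    rintro g ⟨γ, hγ, e, rfl⟩
    rw [← H.rs_appLE h' hγ (le_inv (H.inv γ hγ) V), hc γ hγ]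

/-- **The Reynolds operator on every open.** -/
theorem GQ.exists_reynolds (V : M.Opens) : ∃ r : Γ(R, π ⁻¹ᵁ V) →+ Γ(M, V), r 1 = 1 ∧
    (∀ (x : Γ(M, V)) (y : Γ(R, π ⁻¹ᵁ V)), r (π.app V x * y) = x * r y) ∧
    (∀ y : Γ(R, π ⁻¹ᵁ V), (∀ γ ∈ 𝒢, ∀ h : π ⁻¹ᵁ V ≤ γ ⁻¹ᵁ (π ⁻¹ᵁ V),
      γ.appLE (π ⁻¹ᵁ V) (π ⁻¹ᵁ V) h y = y) → π.app V (r y) = y) ∧
    (∀ γ ∈ 𝒢, ∀ (h : π ⁻¹ᵁ V ≤ γ ⁻¹ᵁ (π ⁻¹ᵁ V)) (y : Γ(R, π ⁻¹ᵁ V)), r (γ.appLE (π ⁻¹ᵁ V) (π ⁻¹ᵁ V) h y) = r y) ∧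
    IsRey κ π 𝒢 V r := by
  obtain ⟨r, hr⟩ := H.exists_isRey V
  exact ⟨AddMonoidHom.mk' r (H.rey_add hr), H.rey_one hr, H.rey_lin hr, fun y hy => H.rey_of_inv hr hy,
    fun γ hγ h y => H.rey_inv hr hγ h y, hr⟩

end

/-- compatibility of the Reynolds operators with commutative squares, arbitrary opens -/
theorem GQ.reynolds_compat (H : GQ κ π 𝒢) {p' : R' ⟶ R} {π' : R' ⟶ M'} {q : M' ⟶ M} {𝒢' : Set (R' ⟶ R')}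
    {κ' : K →+* Γ(M', ⊤)} (H' : GQ κ' π' 𝒢') (hsq : p' ≫ π = π' ≫ q) (L : Lifts p' π' 𝒢 𝒢') {V : M.Opens}
    {V' : M'.Opens} (e : V' ≤ q ⁻¹ᵁ V) {r : Γ(R, π ⁻¹ᵁ V) → Γ(M, V)} (hr : IsRey κ π 𝒢 V r)
    {r' : Γ(R', π' ⁻¹ᵁ V') → Γ(M', V')} (hr' : IsRey κ' π' 𝒢' V' r') (c : Γ(R, π ⁻¹ᵁ V)) :
    r' ((p'.appLE (π ⁻¹ᵁ V) (π' ⁻¹ᵁ V') (le_of_sq hsq e)).hom c) = (q.appLE V V' e).hom (r c) := by
  -- opens `W'` mapping into good opens `W`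
  refine M'.sheaf.eq_of_locally_eq' (ι := {x : M'.Opens × M.Opens // x.1 ≤ V' ∧ x.2 ≤ V ∧ x.1 ≤ q ⁻¹ᵁ x.2 ∧
    GoodS κ' π' 𝒢' x.1 ∧ GoodS κ π 𝒢 x.2}) (fun W => W.1.1) V' (fun W => homOfLE W.2.1) ?_ _ _ (fun W => ?_)
  · intro x hx
    obtain ⟨W, h1, h2, h3⟩ := H.exists_le (V := V) (x := q x) (e hx)
    obtain ⟨W', h4, h5, h6⟩ := H'.exists_le (V := V' ⊓ q ⁻¹ᵁ W) (x := x) ⟨hx, h1⟩
    exact Opens.mem_iSup.2 ⟨⟨⟨W', W⟩, h5.trans inf_le_left, h2, h5.trans inf_le_right, h6, h3⟩, h4⟩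
  · obtain ⟨⟨W', W⟩, hW', hW, hle, hWg', hWg⟩ := W
    obtain ⟨rW, hrW⟩ := hWg.ex
    obtain ⟨rW', hrW'⟩ := hWg'.ex
    dsimp only at hW' hW hle hWg' hWg hrW hrW' rW rW' ⊢
    have h1 : π ⁻¹ᵁ W ≤ π ⁻¹ᵁ V := π.preimage_mono hW
    have h1' : π' ⁻¹ᵁ W' ≤ π' ⁻¹ᵁ V' := π'.preimage_mono hW'
    change rs hW' _ = rs hW' _
    rw [hr' W' hW' hWg' rW' hrW' h1']
    have h2 : rs h1' ((p'.appLE (π ⁻¹ᵁ V) (π' ⁻¹ᵁ V') (le_of_sq hsq e)).hom c) =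
        (p'.appLE (π ⁻¹ᵁ W) (π' ⁻¹ᵁ W') (le_of_sq hsq hle)).hom (rs h1 c) := by
      have : p'.appLE (π ⁻¹ᵁ V) (π' ⁻¹ᵁ V') (le_of_sq hsq e) ≫ R'.presheaf.map (homOfLE h1').op =
          R.presheaf.map (homOfLE h1).op ≫ p'.appLE (π ⁻¹ᵁ W) (π' ⁻¹ᵁ W') (le_of_sq hsq hle) := by
        rw [Scheme.Hom.appLE_map, Scheme.Hom.map_appLE]
      exact congr($this c)
    have h3 : rs hW' ((q.appLE V V' e).hom (r c)) = (q.appLE W W' hle).hom (rs hW (r c)) := by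
      have : q.appLE V V' e ≫ M'.presheaf.map (homOfLE hW').op =
          M.presheaf.map (homOfLE hW).op ≫ q.appLE W W' hle := by
        rw [Scheme.Hom.appLE_map, Scheme.Hom.map_appLE]
      exact congr($this (r c))
    rw [h2, h3, rd_compat H.inv hsq L hle hrW hrW', hr W hW hWg rW hrW h1]

/-- **Stable subspaces with coefficients over the good opens.** -/
theorem GoodS.exists_stable (hγ : ∀ γ ∈ 𝒢, γ ≫ π = π) {W : M.Opens} (H : GoodS κ π 𝒢 W) [Algebra K Γ(R, π ⁻¹ᵁ W)]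
    (hk : ∀ z : K, algebraMap K Γ(R, π ⁻¹ᵁ W) z = (π.app W).hom (kap κ W z)) :
    ∃ ρ : Γ(R, π ⁻¹ᵁ W) →ₗ[K] Γ(R, π ⁻¹ᵁ W),
      (∀ f, ∃ h : Γ(M, W), π.app W h = ρ f) ∧
      (∀ h : Γ(M, W), ρ (π.app W h) = π.app W h) ∧
      (∀ (h : Γ(M, W)) (f : Γ(R, π ⁻¹ᵁ W)), ρ (π.app W h * f) = π.app W h * ρ f) ∧
      (∀ γ ∈ 𝒢, ∀ (e : π ⁻¹ᵁ W ≤ γ ⁻¹ᵁ (π ⁻¹ᵁ W)) (f : Γ(R, π ⁻¹ᵁ W)), ρ (γ.appLE (π ⁻¹ᵁ W) (π ⁻¹ᵁ W) e f) = ρ f) ∧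
      ∀ (L : Type (max u v)) [AddCommGroup L] [Module K L] (J : Submodule K (L ⊗[K] Γ(R, π ⁻¹ᵁ W))),
        (∀ γ ∈ 𝒢, ∀ (τ : Γ(R, π ⁻¹ᵁ W) →ₗ[K] Γ(R, π ⁻¹ᵁ W)) (e : π ⁻¹ᵁ W ≤ γ ⁻¹ᵁ (π ⁻¹ᵁ W)),
          (∀ f, τ f = γ.appLE (π ⁻¹ᵁ W) (π ⁻¹ᵁ W) e f) → J ≤ J.comap (τ.lTensor L)) →
        J ≤ J.comap (ρ.lTensor L) := by
  obtain ⟨r, hr⟩ := H.ex
  let ρ : Γ(R, π ⁻¹ᵁ W) →ₗ[K] Γ(R, π ⁻¹ᵁ W) :=
    { toFun := fun c => (π.app W).hom (r c)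
      map_add' := fun c d => by rw [hr.add, map_add]
      map_smul' := fun z c => by
        rw [Algebra.smul_def, hk, hr.lin, map_mul, RingHom.id_apply, Algebra.smul_def, hk] }
  refine ⟨ρ, fun f => ⟨r f, rfl⟩, fun h => ?_, fun h f => ?_, fun γ hγ' e f => ?_, fun L _ _ J hJ => ?_⟩
  · change (π.app W).hom (r ((π.app W).hom h)) = (π.app W).hom h
    rw [hr.app]
  · change (π.app W).hom (r ((π.app W).hom h * f)) = (π.app W).hom h * (π.app W).hom (r f)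
    rw [hr.lin, map_mul]
  · change (π.app W).hom (r ((γ.appLE _ _ e).hom f)) = (π.app W).hom (r f)
    rw [hr.inv _ ⟨γ, hγ', e, rfl⟩]
  · refine hr.stable hk ρ (fun c => rfl) J ?_
    rintro g ⟨γ, hγ', e, rfl⟩
    let τ : Γ(R, π ⁻¹ᵁ W) →ₗ[K] Γ(R, π ⁻¹ᵁ W) :=
      { toFun := (γ.appLE _ _ e).hom
        map_add' := fun c d => map_add _ _ _
        map_smul' := fun z c => by
          rw [Algebra.smul_def, map_mul, hk, appLE_inv (hγ γ hγ'), RingHom.id_apply, Algebra.smul_def, hk] }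
    exact ⟨τ, fun c => rfl, hJ γ hγ' τ e (fun f => rfl)⟩

end K739.GoodQ
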