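import Groth.Agent.CurvesC.ProjSpaceBasic
import Groth.Agent.CurvesC.ToProj

/-!
# Points of projective space given by functions without common zero

`F : Fin (m + 1) → Γ(T, ⊤)` with `⨆ D(F i) = ⊤` and `t : T ⟶ S` define `pn t F h : T ⟶ P^m_S`.
* `pn_toBase`, `comp_pn` (pullback), `pn_smul` (multiplication by a unit);
* `pn_preimage`: the inverse image of `D₊(X_i)` is `D(F i)`;
* `pn_ratio`: the ratio `X_j / X_i` pulls back to `F j / F i`;
* `Wc S m i U`: the affine open `D₊(X_i) × U`.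
-/

set_option autoImplicit false
set_option linter.unusedVariables false
set_option linter.unusedSectionVars false
set_option backward.isDefEq.respectTransparency false
set_option backward.isDefEq.respectTransparency.types false

universe u

open CategoryTheory CategoryTheory.Limits AlgebraicGeometry TopologicalSpace HomogeneousLocalization
open Groth.Agent.CurvesC.ProjSpaceBasic Groth.Agent.CurvesC.ToProj

namespace K739.PnCoord

/-- the integers in `Type u` -/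
abbrev ZZ : Type u := ULift.{u} ℤ

variable {T T' S S' : Scheme.{u}} {m : ℕ}

theorem zz_ext {B : Type u} [CommRing B] (f g : ZZ.{u} →+* B) : f = g := by
  have h : f.comp (ULift.ringEquiv (R := ℤ)).symm.toRingHom = g.comp (ULift.ringEquiv (R := ℤ)).symm.toRingHom :=
    RingHom.ext_int _ _
  ext x
  obtain ⟨n⟩ := x
  exact congr($h n)

/-- restriction of a global function -/
noncomputable abbrev gr (U : T.Opens) : Γ(T, ⊤) →+* Γ(T, U) := (T.presheaf.map (homOfLE le_top).op).hom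

/-- the ring homomorphism given by the `F j` -/
noncomputable def hm (F : Fin (m + 1) → Γ(T, ⊤)) (U : T.Opens) : MvPolynomial (Fin (m + 1)) ZZ.{u} →+* Γ(T, U) :=
  MvPolynomial.eval₂Hom ((Int.castRingHom Γ(T, U)).comp (ULift.ringEquiv (R := ℤ)).toRingHom) (fun j => gr U (F j))

theorem hm_X (F : Fin (m + 1) → Γ(T, ⊤)) (U : T.Opens) (j : Fin (m + 1)) : hm F U (MvPolynomial.X j) = gr U (F j) :=
  MvPolynomial.eval₂Hom_X' _ _ _

theorem comp_hm {T' : Scheme.{u}} (F : Fin (m + 1) → Γ(T, ⊤)) (U : T.Opens) {U' : T'.Opens} (g : Γ(T, U) →+* Γ(T', U'))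
    (F' : Fin (m + 1) → Γ(T', ⊤)) (h : ∀ j, g (gr U (F j)) = gr U' (F' j)) : g.comp (hm F U) = hm F' U' := by
  apply MvPolynomial.ringHom_ext
  · intro z
    exact congr($(zz_ext ((g.comp (hm F U)).comp MvPolynomial.C) ((hm F' U').comp MvPolynomial.C)) z)
  · intro j
    rw [RingHom.comp_apply, hm_X, hm_X, h]

theorem hm_smul (v : Γ(T, ⊤)) (F : Fin (m + 1) → Γ(T, ⊤)) (U : T.Opens) (n : ℕ) (a : MvPolynomial (Fin (m + 1)) ZZ.{u})
    (ha : a ∈ CohB1.polyGrading m ZZ.{u} n) : hm (fun j => v * F j) U a = gr U v ^ n * hm F U a := by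
  have ha' : a.IsHomogeneous n := (MvPolynomial.mem_homogeneousSubmodule _ _).1 ha
  rw [hm, hm]
  simp only [MvPolynomial.coe_eval₂Hom, map_mul]
  rw [MvPolynomial.eval₂_eq', MvPolynomial.eval₂_eq', Finset.mul_sum]
  apply Finset.sum_congr rfl
  intro d hd
  have h9 : ∑ i, d i = n := by
    rw [ha'.degree_eq_sum_deg_support hd]
    exact (Finset.sum_subset (Finset.subset_univ _) (by
      intro i _ hi
      simpa using hi)).symm
  simp only [mul_pow, Finset.prod_mul_distrib]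
  rw [Finset.prod_pow_eq_pow_sum, h9]
  ring

theorem isUnit_gr (s : Γ(T, ⊤)) {U : T.Opens} (hU : U ≤ T.basicOpen s) : IsUnit (gr U s) := by
  have h1 : IsUnit (gr (T.basicOpen s) s) := T.toRingedSpace.isUnit_res_basicOpen s
  have h2 := h1.map (T.presheaf.map (homOfLE hU).op).hom
  have h3 : (T.presheaf.map (homOfLE hU).op).hom (gr (T.basicOpen s) s) = gr U s := by
    change (T.presheaf.map _ ≫ T.presheaf.map _) s = _
    rw [← Functor.map_comp]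
    rfl
  rwa [h3] at h2

theorem isUnit_hm (F : Fin (m + 1) → Γ(T, ⊤)) (i : Fin (m + 1)) {U : T.Opens} (hU : U ≤ T.basicOpen (F i)) :
    IsUnit (hm F U (MvPolynomial.X i)) := by
  rw [hm_X]
  exact isUnit_gr _ hU

/-- `φ` is the morphism given by the `F j`. -/
def IsPt (F : Fin (m + 1) → Γ(T, ⊤)) (φ : T ⟶ CohB1.ProjSpace m ZZ.{u}) : Prop :=
  ∀ i, (T.basicOpen (F i)).ι ≫ φ = toProj (CohB1.polyGrading m ZZ.{u}) (hm F (T.basicOpen (F i))) (X_mem m ZZ.{u} i)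
    one_pos (isUnit_hm F i le_rfl)

theorem exists_isPt (F : Fin (m + 1) → Γ(T, ⊤)) (hF : ⨆ i, T.basicOpen (F i) = ⊤) :
    ∃ φ : T ⟶ CohB1.ProjSpace m ZZ.{u}, IsPt F φ := by
  refine exists_glue (CohB1.polyGrading m ZZ.{u}) (fun i => T.basicOpen (F i)) hF
    (fun i => hm F (T.basicOpen (F i))) (fun i => X_mem m ZZ.{u} i) (fun i => one_pos)
    (fun i => isUnit_hm F i le_rfl) ?_
  intro i j
  refine ⟨1, isUnit_one, fun n a _ => ?_⟩
  rw [one_pow, one_mul]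
  have key : ∀ {U V : T.Opens} (h : V ≤ U), (T.presheaf.map (homOfLE h).op).hom.comp (hm F U) = hm F V := by
    intro U V h
    refine comp_hm F U _ F fun j => ?_
    change (T.presheaf.map _ ≫ T.presheaf.map _) (F j) = _
    rw [← Functor.map_comp]
    rfl
  exact congr($(key (inf_le_left (a := T.basicOpen (F i)) (b := T.basicOpen (F j)))) a).trans
    congr($(key (inf_le_right (a := T.basicOpen (F i)) (b := T.basicOpen (F j)))) a).symm

theorem hm_res (F : Fin (m + 1) → Γ(T, ⊤)) {U V : T.Opens} (h : V ≤ U) :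
    (T.presheaf.map (homOfLE h).op).hom.comp (hm F U) = hm F V := by
  refine comp_hm F U _ F fun j => ?_
  change (T.presheaf.map _ ≫ T.presheaf.map _) (F j) = _
  rw [← Functor.map_comp]
  rfl

theorem IsPt.of_le {F : Fin (m + 1) → Γ(T, ⊤)} {φ : T ⟶ CohB1.ProjSpace m ZZ.{u}} (h : IsPt F φ) (i : Fin (m + 1))
    {U : T.Opens} (hU : U ≤ T.basicOpen (F i)) :
    U.ι ≫ φ = toProj (CohB1.polyGrading m ZZ.{u}) (hm F U) (X_mem m ZZ.{u} i) one_pos (isUnit_hm F i hU) := by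
  have h1 := congr(T.homOfLE hU ≫ $(h i))
  rw [Scheme.homOfLE_ι_assoc, homOfLE_toProj] at h1
  rw [h1]
  congr 1
  exact hm_res F hU

/-- coverings by the `D(F i)` -/
theorem hom_ext' {F : Fin (m + 1) → Γ(T, ⊤)} (hF : ⨆ i, T.basicOpen (F i) = ⊤) {Y : Scheme.{u}} {φ φ' : T ⟶ Y}
    (h : ∀ i, (T.basicOpen (F i)).ι ≫ φ = (T.basicOpen (F i)).ι ≫ φ') : φ = φ' :=
  (T.openCoverOfIsOpenCover (fun i => T.basicOpen (F i)) hF).hom_ext _ _ h

theorem IsPt.unique {F : Fin (m + 1) → Γ(T, ⊤)} (hF : ⨆ i, T.basicOpen (F i) = ⊤)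
    {φ φ' : T ⟶ CohB1.ProjSpace m ZZ.{u}} (h : IsPt F φ) (h' : IsPt F φ') : φ = φ' :=
  hom_ext' hF fun i => (h i).trans (h' i).symm

theorem iSup_pull {F : Fin (m + 1) → Γ(T, ⊤)} (hF : ⨆ i, T.basicOpen (F i) = ⊤) (ψ : T' ⟶ T) :
    ⨆ i, T'.basicOpen (ψ.appTop.hom (F i)) = ⊤ := by
  have h1 := congr(ψ ⁻¹ᵁ $hF)
  rw [Scheme.Hom.preimage_iSup, Scheme.Hom.preimage_top] at h1
  exact Eq.trans (iSup_congr fun i => (Scheme.preimage_basicOpen ψ (F i)).symm) h1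

theorem IsPt.comp {F : Fin (m + 1) → Γ(T, ⊤)} {φ : T ⟶ CohB1.ProjSpace m ZZ.{u}} (h : IsPt F φ) (ψ : T' ⟶ T) :
    IsPt (fun j => ψ.appTop.hom (F j)) (ψ ≫ φ) := by
  intro i
  have hle : T'.basicOpen (ψ.appTop.hom (F i)) ≤ ψ ⁻¹ᵁ T.basicOpen (F i) :=
    (Scheme.preimage_basicOpen ψ (F i)).ge
  have h1 : (T'.basicOpen (ψ.appTop.hom (F i))).ι ≫ ψ = ψ.resLE _ _ hle ≫ (T.basicOpen (F i)).ι :=
    (Scheme.Hom.resLE_comp_ι _ _).symm
  rw [reassoc_of% h1, h i, toProj, toProj, ← Scheme.Opens.toSpecΓ_SpecMap_appLE_assoc, ← Spec.map_comp_assoc,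
    ← CommRingCat.ofHom_hom (ψ.appLE _ _ hle), ← CommRingCat.ofHom_comp, comp_awayLift]
  congr 5
  refine comp_hm F _ _ _ fun j => ?_
  change (T.presheaf.map _ ≫ ψ.appLE _ _ hle) (F j) = (ψ.app ⊤ ≫ T'.presheaf.map _) (F j)
  rw [Scheme.Hom.map_appLE, Scheme.Hom.app_eq_appLE, Scheme.Hom.appLE_map]

theorem basicOpen_unit_mul {v : Γ(T, ⊤)} (hv : IsUnit v) (s : Γ(T, ⊤)) : T.basicOpen (v * s) = T.basicOpen s := by
  rw [Scheme.basicOpen_mul, T.basicOpen_of_isUnit hv, inf_eq_right]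
  exact le_top

theorem IsPt.smul {F : Fin (m + 1) → Γ(T, ⊤)} {φ : T ⟶ CohB1.ProjSpace m ZZ.{u}} (h : IsPt F φ) {v : Γ(T, ⊤)}
    (hv : IsUnit v) : IsPt (fun j => v * F j) φ := by
  intro i
  have hle : T.basicOpen (v * F i) ≤ T.basicOpen (F i) := (basicOpen_unit_mul hv (F i)).le
  rw [h.of_le i hle]
  symm
  exact toProj_eq _ _ _ _ _ _ _ _ _ (gr _ v) (hv.map _) (fun n a ha => hm_smul v F _ n a ha)

theorem IsPt.preimage {F : Fin (m + 1) → Γ(T, ⊤)} (hF : ⨆ i, T.basicOpen (F i) = ⊤)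
    {φ : T ⟶ CohB1.ProjSpace m ZZ.{u}} (h : IsPt F φ) (i : Fin (m + 1)) :
    φ ⁻¹ᵁ Dp m ZZ.{u} i = T.basicOpen (F i) := by
  have h1 : ∀ j, (T.basicOpen (F j)).ι ⁻¹ᵁ φ ⁻¹ᵁ Dp m ZZ.{u} i = (T.basicOpen (F j)).ι ⁻¹ᵁ T.basicOpen (F i) := by
    intro j
    rw [← Scheme.Hom.comp_preimage, h j]
    have h2 := toProj_preimage_basicOpen (CohB1.polyGrading m ZZ.{u}) (hm F (T.basicOpen (F j))) (X_mem m ZZ.{u} j)
      one_pos (isUnit_hm F j le_rfl) (X_mem m ZZ.{u} i) one_pos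
    refine h2.trans ?_
    rw [hm_X]
    ext x
    change (T.basicOpen (F j)).ι x ∈ T.basicOpen (gr _ (F i)) ↔ (T.basicOpen (F j)).ι x ∈ T.basicOpen (F i)
    rw [Scheme.basicOpen_res]
    exact ⟨fun h => h.2, fun h => ⟨x.2, h⟩⟩
  ext x
  have hx : x ∈ (⨆ j, T.basicOpen (F j) : T.Opens) := by rw [hF]; trivial
  obtain ⟨j, hj⟩ := Opens.mem_iSup.1 hx
  have h3 := h1 j
  have h4 : (⟨x, hj⟩ : T.basicOpen (F j)) ∈ (T.basicOpen (F j)).ι ⁻¹ᵁ φ ⁻¹ᵁ Dp m ZZ.{u} i ↔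
      (⟨x, hj⟩ : T.basicOpen (F j)) ∈ (T.basicOpen (F j)).ι ⁻¹ᵁ T.basicOpen (F i) := by rw [h3]
  exact h4

theorem IsPt.rat_mul {F : Fin (m + 1) → Γ(T, ⊤)} {φ : T ⟶ CohB1.ProjSpace m ZZ.{u}} (h : IsPt F φ) (i j : Fin (m + 1))
    {U : T.Opens} (hU : U ≤ T.basicOpen (F i)) (hU' : U ≤ φ ⁻¹ᵁ Dp m ZZ.{u} i) :
    (φ.appLE _ _ hU').hom (ratio m ZZ.{u} i j) * gr U (F i) = gr U (F j) := by
  have h1 := appLE_awayToSection (CohB1.polyGrading m ZZ.{u}) (hm F U) (X_mem m ZZ.{u} i) one_pos (isUnit_hm F i hU) φ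
    (h.of_le i hU) hU'
  have h2 : (φ.appLE _ _ hU').hom (ratio m ZZ.{u} i j) =
      awayLift (CohB1.polyGrading m ZZ.{u}) (hm F U) (isUnit_hm F i hU)
        (HomogeneousLocalization.Away.mk _ (X_mem m ZZ.{u} i) 1 (MvPolynomial.X j)
          (by rw [one_smul]; exact X_mem m ZZ.{u} j)) := congr($h1 _)
  have h3 := awayLift_mk (CohB1.polyGrading m ZZ.{u}) (hm F U) (isUnit_hm F i hU) (X_mem m ZZ.{u} i) 1
    (MvPolynomial.X j) (by rw [one_smul]; exact X_mem m ZZ.{u} j)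
  rw [pow_one, hm_X, hm_X] at h3
  rw [h2, mul_comm]
  exact h3

section Over

variable (m S) in
/-- the morphism to `P^m` over the integers -/
noncomputable def toZ : CohB1.ProjSpaceOver m S ⟶ CohB1.ProjSpace m ZZ.{u} := pullback.fst _ _

theorem hom_ext {φ φ' : T ⟶ CohB1.ProjSpaceOver m S} (h1 : φ ≫ toZ S m = φ' ≫ toZ S m)
    (h2 : φ ≫ CohB1.ProjSpaceOver.toBase m S = φ' ≫ CohB1.ProjSpaceOver.toBase m S) : φ = φ' :=
  pullback.hom_ext h1 h2

/-- The point of `P^m_S` with base `t` and coordinates `F`. -/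
noncomputable def pn (t : T ⟶ S) (F : Fin (m + 1) → Γ(T, ⊤)) (hF : ⨆ i, T.basicOpen (F i) = ⊤) :
    T ⟶ CohB1.ProjSpaceOver m S :=
  pullback.lift (exists_isPt F hF).choose t (specULiftZIsTerminal.hom_ext _ _)

variable {t : T ⟶ S} {F : Fin (m + 1) → Γ(T, ⊤)} {hF : ⨆ i, T.basicOpen (F i) = ⊤}

variable (t F hF) in
theorem isPt_pn : IsPt F (pn t F hF ≫ toZ S m) := by
  rw [pn, toZ]
  erw [pullback.lift_fst]
  exact (exists_isPt F hF).choose_spec

variable (t F hF) in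
@[reassoc]
theorem pn_toBase : pn t F hF ≫ CohB1.ProjSpaceOver.toBase m S = t := pullback.lift_snd _ _ _

theorem pn_ext {φ : T ⟶ CohB1.ProjSpaceOver m S} (h1 : IsPt F (φ ≫ toZ S m))
    (h2 : φ ≫ CohB1.ProjSpaceOver.toBase m S = t) : φ = pn t F hF :=
  hom_ext (h1.unique hF (isPt_pn t F hF)) (by rw [h2, pn_toBase])

theorem pn_congr {t' : T ⟶ S} {F' : Fin (m + 1) → Γ(T, ⊤)} {hF' : ⨆ i, T.basicOpen (F' i) = ⊤} (h1 : t = t')
    (h2 : F = F') : pn t F hF = pn t' F' hF' := by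
  subst h1 h2
  rfl

theorem comp_pn (ψ : T' ⟶ T) : ψ ≫ pn t F hF = pn (ψ ≫ t) (fun j => ψ.appTop.hom (F j)) (iSup_pull hF ψ) := by
  apply pn_ext
  · rw [Category.assoc]
    exact (isPt_pn t F hF).comp ψ
  · rw [Category.assoc, pn_toBase]

theorem iSup_smul {v : Γ(T, ⊤)} (hv : IsUnit v) (hF : ⨆ i, T.basicOpen (F i) = ⊤) :
    ⨆ i, T.basicOpen (v * F i) = ⊤ := by
  simp only [basicOpen_unit_mul hv]
  exact hF

theorem pn_smul {v : Γ(T, ⊤)} (hv : IsUnit v) : pn t (fun j => v * F j) (iSup_smul hv hF) = pn t F hF := by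
  symm
  apply pn_ext
  · exact (isPt_pn t F hF).smul hv
  · rw [pn_toBase]

variable (m S) in
/-- the affine open `D₊(X_i) × U` -/
noncomputable def Wc (i : Fin (m + 1)) (U : S.Opens) : (CohB1.ProjSpaceOver m S).Opens :=
  toZ S m ⁻¹ᵁ Dp m ZZ.{u} i ⊓ CohB1.ProjSpaceOver.toBase m S ⁻¹ᵁ U

theorem isAffineOpen_Wc (i : Fin (m + 1)) {U : S.Opens} (hU : IsAffineOpen U) : IsAffineOpen (Wc S m i U) := by
  have H := IsPullback.of_hasPullback (CohB1.ProjSpace.toSpec m ZZ.{u}) (specULiftZIsTerminal.from S)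
  have hS : IsAffineOpen (⊤ : (Spec (CommRingCat.of ZZ.{u})).Opens) := isAffineOpen_top _
  have hDp := isAffineOpen_Dp m ZZ.{u} i
  have : IsAffine (Dp m ZZ.{u} i) := hDp
  have : IsAffine U := hU
  have : IsAffine (⊤ : (Spec (CommRingCat.of ZZ.{u})).Opens) := hS
  exact .of_isIso (Scheme.Hom.isPullback_resLE H (US := ⊤) (UX := Dp m ZZ.{u} i) (UT := U) le_top le_top
    rfl).isoPullback.hom

theorem exists_mem_Wc (x : CohB1.ProjSpaceOver m S) : ∃ (i : Fin (m + 1)) (U : S.Opens), IsAffineOpen U ∧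
    x ∈ Wc S m i U := by
  have h1 : toZ S m x ∈ (⨆ i, Dp m ZZ.{u} i : (CohB1.ProjSpace m ZZ.{u}).Opens) := by rw [iSup_Dp]; trivial
  obtain ⟨i, hi⟩ := Opens.mem_iSup.1 h1
  obtain ⟨_, ⟨U, hU, rfl⟩, hxU, _⟩ := S.isBasis_affineOpens.exists_subset_of_mem_open
    (show CohB1.ProjSpaceOver.toBase m S x ∈ (⊤ : S.Opens) from trivial) (⊤ : S.Opens).isOpen
  exact ⟨i, U, hU, hi, hxU⟩

theorem pn_preimage (i : Fin (m + 1)) (U : S.Opens) :
    pn t F hF ⁻¹ᵁ Wc S m i U = T.basicOpen (F i) ⊓ t ⁻¹ᵁ U := by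
  rw [Wc, Scheme.Hom.preimage_inf, ← Scheme.Hom.comp_preimage, ← Scheme.Hom.comp_preimage, pn_toBase,
    (isPt_pn t F hF).preimage hF]

variable (m S) in
/-- the ratio `X_j / X_i` on `D₊(X_i) × U` -/
noncomputable def rat (i j : Fin (m + 1)) (U : S.Opens) : Γ(CohB1.ProjSpaceOver m S, Wc S m i U) :=
  ((toZ S m).appLE (Dp m ZZ.{u} i) (Wc S m i U) inf_le_left).hom (ratio m ZZ.{u} i j)

variable (m S) in
/-- functions on the base -/
noncomputable def bs (i : Fin (m + 1)) (U : S.Opens) : Γ(S, U) →+* Γ(CohB1.ProjSpaceOver m S, Wc S m i U) :=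
  ((CohB1.ProjSpaceOver.toBase m S).appLE U (Wc S m i U) inf_le_right).hom

theorem pn_rat (i j : Fin (m + 1)) (U : S.Opens) {O : T.Opens} (hO : O ≤ pn t F hF ⁻¹ᵁ Wc S m i U) :
    ((pn t F hF).appLE _ O hO).hom (rat S m i j U) * gr O (F i) = gr O (F j) := by
  have h1 : O ≤ T.basicOpen (F i) := by
    rw [pn_preimage] at hO
    exact hO.trans inf_le_left
  have h2 : O ≤ (pn t F hF ≫ toZ S m) ⁻¹ᵁ Dp m ZZ.{u} i := by
    rw [(isPt_pn t F hF).preimage hF]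
    exact h1
  rw [← (isPt_pn t F hF).rat_mul i j h1 h2]
  congr 1
  have h3 : (toZ S m).appLE (Dp m ZZ.{u} i) (Wc S m i U) inf_le_left ≫ (pn t F hF).appLE _ O hO =
      (pn t F hF ≫ toZ S m).appLE _ O h2 := by
    rw [Scheme.Hom.appLE_comp_appLE]
  exact congr($h3 _)

theorem pn_bs (i : Fin (m + 1)) (U : S.Opens) {O : T.Opens} (hO : O ≤ pn t F hF ⁻¹ᵁ Wc S m i U)
    (hO' : O ≤ t ⁻¹ᵁ U) (l : Γ(S, U)) :
    ((pn t F hF).appLE _ O hO).hom (bs S m i U l) = (t.appLE U O hO').hom l := by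
  have h3 : (CohB1.ProjSpaceOver.toBase m S).appLE U (Wc S m i U) inf_le_right ≫ (pn t F hF).appLE _ O hO =
      t.appLE U O hO' := by
    rw [Scheme.Hom.appLE_comp_appLE]
    simp only [pn_toBase]
  exact congr($h3 l)

end Over

end K739.PnCoord
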