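import Groth.Agent.Coherent.K739.KrAff
import Groth.Agent.Coherent.K739.GoodR
import Groth.Agent.Coherent.K739.PnCoord

/-!
# The good quotient of the semistable Kronecker modules

`R` a subscheme of the affine space `AS a b h S` of Kronecker modules, contained and closed in the semistable locus, stable
under `GL_b(K) × GL_a(K)`. The quotient `M` is the scheme-theoretic image of `[f_0 : … : f_m] : R ⟶ P^m_S`.
-/

set_option autoImplicit false
set_option linter.unusedVariables false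
set_option linter.unusedSectionVars false
set_option backward.isDefEq.respectTransparency false
set_option backward.isDefEq.respectTransparency.types false

universe u

open CategoryTheory CategoryTheory.Limits AlgebraicGeometry TopologicalSpace MvPolynomial K585.KronK TensorProduct
open K739.KrAlg K739.KrOp K739.KrAff K739.GoodQ K739.RdAlg K739.PnCoord

namespace K739.KrQuot

variable {K : Type u} [Field K] {a b h m e : ℕ} {f : Fin (m + 1) → Poly K a b h}
variable {ρ : Poly K a b h →ₗ[K] Poly K a b h} {S R : Scheme.{u}}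
variable (sS : S ⟶ Spec (CommRingCat.of K)) (j : R ⟶ AS a b h S)

/-- the structure map -/
noncomputable abbrev tt : R ⟶ S := j ≫ prS a b h S

variable (f) in
/-- the homogeneous coordinates -/
noncomputable def FF (i : Fin (m + 1)) : Γ(R, ⊤) := j.appTop.hom (fn sS (f i))

theorem iSup_FF (hle : Set.range j ⊆ ssOpen sS f) : ⨆ i, R.basicOpen (FF f sS j i) = ⊤ := by
  rw [eq_top_iff]
  intro x _
  have h1 : j x ∈ ssOpen sS f := hle ⟨x, rfl⟩
  obtain ⟨i, hi⟩ := Opens.mem_iSup.1 h1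
  refine Opens.mem_iSup.2 ⟨i, ?_⟩
  have h2 : x ∈ j ⁻¹ᵁ (AS a b h S).basicOpen (fn sS (f i)) := hi
  rw [Scheme.preimage_basicOpen] at h2
  exact h2

theorem basicOpen_FF (i : Fin (m + 1)) (U : S.Opens) :
    R.basicOpen (FF f sS j i) ⊓ tt j ⁻¹ᵁ U = j ⁻¹ᵁ OA sS f i U := by
  rw [OA, Scheme.Hom.preimage_inf, Scheme.preimage_basicOpen]
  rfl

variable {sS j}

/-- homogeneous coordinates of points -/
theorem app_FF {T : Scheme.{u}} (x : T ⟶ R) (i : Fin (m + 1)) :
    x.appTop.hom (FF f sS j i) = evr (sOf ((x ≫ tt j) ≫ sS)) (crd (x ≫ j)) (f i) := by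
  have h1 := app_fn sS (x ≫ j) (f i)
  rw [Scheme.Hom.comp_appTop, Category.assoc] at h1
  exact h1

variable [IsAlgClosed K] [CharZero K]

/-- points in the same orbit have the same image -/
theorem comp_pn_eq (P : Pack a b h m e f ρ) (hF : ⨆ i, R.basicOpen (FF f sS j i) = ⊤) {T : Scheme.{u}} (x y : T ⟶ R)
    (hxy : K585.KronK.Rel j x y) : x ≫ pn (tt j) (FF f sS j) hF = y ≫ pn (tt j) (FF f sS j) hF := by
  obtain ⟨h1, k, g, hk, hg, hkg⟩ := hxy
  obtain ⟨s, t, hst⟩ := KrSemi.exists_weights P.pos P.hom P.inv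
  have hv : IsUnit (k.det ^ s * g.det ^ t) :=
    (((Matrix.isUnit_iff_isUnit_det k).1 hk).pow s).mul (((Matrix.isUnit_iff_isUnit_det g).1 hg).pow t)
  rw [comp_pn, comp_pn, ← pn_smul hv]
  symm
  refine pn_congr h1.symm ?_
  funext i
  rw [app_FF, app_FF, hkg, hst]
  congr 3
  rw [tt, h1]

theorem rel_of_isAct {γ : R ⟶ R} (hγ : IsAct sS j γ) : K585.KronK.Rel j (𝟙 R) γ := by
  obtain ⟨k, g, hk, hg, h1⟩ := hγ
  refine ⟨?_, k.map (sOf ((j ≫ prS a b h S) ≫ sS)), g.map (sOf ((j ≫ prS a b h S) ≫ sS)), ?_, ?_, ?_⟩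
  · rw [Category.id_comp, ← Category.assoc, h1, Category.assoc, actS_over]
  · rw [Matrix.isUnit_iff_isUnit_det, ← RingHom.mapMatrix_apply, ← RingHom.map_det]
    exact (isUnit_iff_ne_zero.2 hk).map _
  · rw [Matrix.isUnit_iff_isUnit_det, ← RingHom.mapMatrix_apply, ← RingHom.map_det]
    exact (isUnit_iff_ne_zero.2 hg).map _
  · rw [h1, crd_actS, Category.id_comp]

theorem comp_pn_of_isAct (P : Pack a b h m e f ρ) (hF : ⨆ i, R.basicOpen (FF f sS j i) = ⊤) {γ : R ⟶ R}
    (hγ : IsAct sS j γ) : γ ≫ pn (tt j) (FF f sS j) hF = pn (tt j) (FF f sS j) hF := by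
  rw [← comp_pn_eq P hF _ _ (rel_of_isAct hγ), Category.id_comp]

theorem isAffineOpen_chart [IsImmersion j] (hcl : ∃ Z : Set (AS a b h S), IsClosed Z ∧ Set.range j = Z ∩ ssOpen sS f)
    (i : Fin (m + 1)) {U : S.Opens} (hU : IsAffineOpen U) : IsAffineOpen (j ⁻¹ᵁ OA sS f i U) := by
  have hci := isClosedImmersion_chart hcl i hU
  have haff : IsAffine (OA sS f i U).toScheme := isAffineOpen_OA sS f i hU
  exact (IsClosedImmersion.isAffine_surjective_of_isAffine (j ∣_ OA sS f i U)).1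

variable {M : Scheme.{u}} {c : M ⟶ CohB1.ProjSpaceOver m S} {π : R ⟶ M}

omit [IsAlgClosed K] [CharZero K] in
theorem preimage_chart {hF : ⨆ i, R.basicOpen (FF f sS j i) = ⊤} (hπ : π ≫ c = pn (tt j) (FF f sS j) hF)
    (i : Fin (m + 1)) (U : S.Opens) : π ⁻¹ᵁ (c ⁻¹ᵁ Wc S m i U) = j ⁻¹ᵁ OA sS f i U := by
  rw [← basicOpen_FF, ← pn_preimage (hF := hF), ← hπ]
  rfl

/-- the composition of a matrix action with the functions -/
theorem appLE_theta {U : S.Opens} {O : R.Opens} (hOt : O ≤ tt j ⁻¹ᵁ U) {γ : R ⟶ R} {k : Matrix (Fin b) (Fin b) K}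
    {g : Matrix (Fin a) (Fin a) K} (hγ : γ ≫ j = j ≫ actS sS k g) (e' : O ≤ γ ⁻¹ᵁ O) (l : Γ(S, U))
    (q : Poly K a b h) :
    (γ.appLE O O e').hom (((tt j).appLE U O hOt).hom l * KrAff.gr O (j.appTop.hom (fn sS q))) =
      ((tt j).appLE U O hOt).hom l * KrAff.gr O (j.appTop.hom (fn sS (sub k g q))) := by
  rw [map_mul, appLE_gr]
  congr 1
  · have h1 : (tt j).appLE U O hOt ≫ γ.appLE O O e' = (tt j).appLE U O hOt := by
      have h2 : γ ≫ tt j = tt j := by rw [tt, ← Category.assoc, hγ, Category.assoc, actS_over]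
      rw [Scheme.Hom.appLE_comp_appLE]
      simp only [h2]
    exact congr($h1 l)
  · congr 1
    rw [← app_actS_fn, ← hγ, Scheme.Hom.comp_appTop]
    rfl

/-- **The Reynolds operator over the charts of the quotient.** -/
theorem exists_rd (P : Pack a b h m e f ρ) [IsImmersion j]
    (hcl : ∃ Z : Set (AS a b h S), IsClosed Z ∧ Set.range j = Z ∩ ssOpen sS f) (hst : IsStable sS j)
    {hF : ⨆ i, R.basicOpen (FF f sS j i) = ⊤} (hπ : π ≫ c = pn (tt j) (FF f sS j) hF)
    (hinv : ∀ γ : R ⟶ R, IsAct sS j γ → γ ≫ π = π) (i : Fin (m + 1)) {U : S.Opens} (hU : IsAffineOpen U)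
    (hinj : Function.Injective (π.app (c ⁻¹ᵁ Wc S m i U)).hom) :
    ∃ r, Rd (π.app (c ⁻¹ᵁ Wc S m i U)).hom
      (kap (sOf (c ≫ CohB1.ProjSpaceOver.toBase m S ≫ sS) : K →+* Γ(M, ⊤)) (c ⁻¹ᵁ Wc S m i U))
      (Sec π {γ | IsAct sS j γ} (c ⁻¹ᵁ Wc S m i U)) r := by
  set W := c ⁻¹ᵁ Wc S m i U with hW
  set κ : K →+* Γ(M, ⊤) := sOf (c ≫ CohB1.ProjSpaceOver.toBase m S ≫ sS) with hκdef
  let O := π ⁻¹ᵁ W
  have hO : O = j ⁻¹ᵁ OA sS f i U := preimage_chart hπ i U
  have hO2 : O = R.basicOpen (FF f sS j i) ⊓ tt j ⁻¹ᵁ U := by rw [basicOpen_FF]; exact hO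
  have hOt : O ≤ tt j ⁻¹ᵁ U := hO2.le.trans inf_le_right
  have hOF : O ≤ R.basicOpen (FF f sS j i) := hO2.le.trans inf_le_left
  let _ : Algebra K Γ(S, U) := ((KrAff.gr U).comp (sOf sS)).toAlgebra
  let _ : Algebra K Γ(R, O) := ((KrAff.gr O).comp (sOf (tt j ≫ sS))).toAlgebra
  obtain ⟨θ, hθ⟩ := exists_theta sS (x := j) (O := O) hOt (fun z => rfl) (fun z => rfl)
  have hκ : ∀ z : K, (π.app W).hom (kap κ W z) = algebraMap K Γ(R, O) z := by
    intro z
    have h1 : (π.app W).hom (kap κ W z) = KrAff.gr O (π.appTop.hom (κ z)) := by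
      have := π.naturality (homOfLE (le_top : W ≤ ⊤)).op
      exact congr($this (κ z))
    have h2 : π.appTop.hom (κ z) = sOf (tt j ≫ sS) z := by
      have h3 : π ≫ c ≫ CohB1.ProjSpaceOver.toBase m S ≫ sS = tt j ≫ sS := by
        rw [reassoc_of% hπ, pn_toBase_assoc]
      rw [← h3, sOf_comp]
      rfl
    rw [h1, h2]
    rfl
  choose γ hγ using hst
  have hle : ∀ k g hk hg, O ≤ (γ k g hk hg) ⁻¹ᵁ O := fun k g hk hg =>
    le_inv (hinv _ ⟨k, g, hk, hg, hγ k g hk hg⟩) W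
  classical
  let gam : Matrix (Fin b) (Fin b) K → Matrix (Fin a) (Fin a) K → Γ(R, O) →+* Γ(R, O) := fun k g =>
    if h : k.det ≠ 0 ∧ g.det ≠ 0 then ((γ k g h.1 h.2).appLE O O (hle k g h.1 h.2)).hom else RingHom.id _
  have hgam : ∀ k g (hk : k.det ≠ 0) (hg : g.det ≠ 0), gam k g = ((γ k g hk hg).appLE O O (hle k g hk hg)).hom :=
    fun k g hk hg => dif_pos (⟨hk, hg⟩ : k.det ≠ 0 ∧ g.det ≠ 0)
  have hθF : ∀ j', θ (1 ⊗ₜ f j') = KrAff.gr O (FF f sS j j') := by
    intro j'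
    rw [hθ, map_one, one_mul]
    rfl
  have D : ChartData f θ i gam :=
    { unit := by
        rw [hθF]
        exact PnCoord.isUnit_gr _ hOF
      frac := exists_frac hcl i hU hO hOt (fun z => rfl) hθ
      act := by
        intro k g hk hg p
        rw [hgam k g hk hg]
        induction p using TensorProduct.induction_on with
        | zero => simp only [map_zero]
        | add x y hx hy => simp only [map_add, hx, hy]
        | tmul l q =>
          rw [subL_tmul, hθ, hθ]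
          exact appLE_theta hOt (hγ k g hk hg) (hle k g hk hg) l q }
  obtain ⟨ρC, hadd, hrange, hlin, hginv, htup⟩ := exists_op P D
  -- the values come from the base
  have hOp : O ≤ pn (tt j) (FF f sS j) hF ⁻¹ᵁ Wc S m i U := by
    rw [pn_preimage]
    exact hO2.le
  have hcπ : ∀ s, (π.app W).hom ((c.app (Wc S m i U)).hom s) =
      ((pn (tt j) (FF f sS j) hF).appLE (Wc S m i U) O hOp).hom s := by
    intro s
    have h1 : c.app (Wc S m i U) ≫ π.app W = (pn (tt j) (FF f sS j) hF).appLE (Wc S m i U) O hOp := by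
      rw [Scheme.Hom.app_eq_appLE, Scheme.Hom.app_eq_appLE, Scheme.Hom.appLE_comp_appLE]
      simp only [hπ]
      rfl
    exact congr($h1 s)
  have hval : ∀ x, ∃ y, (π.app W).hom y = ρC x := by
    refine hrange (π.app W).hom.range (fun l => ?_) (fun j' => ?_)
    · refine ⟨(c.app (Wc S m i U)).hom (bs S m i U l), ?_⟩
      rw [hcπ, pn_bs i U hOp hOt, hθ, fn, map_one, map_one, map_one, mul_one]
    · refine ⟨_, ⟨(c.app (Wc S m i U)).hom (PnCoord.rat S m i j' U), rfl⟩, ?_⟩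
      rw [hcπ, hθF, hθF]
      exact pn_rat i j' U hOp
  choose r hr using hval
  -- functions of the base are invariant
  have hbase : ∀ (s : Γ(M, W)) (k : Matrix (Fin b) (Fin b) K) (g : Matrix (Fin a) (Fin a) K), k.det ≠ 0 →
      g.det ≠ 0 → gam k g ((π.app W).hom s) = (π.app W).hom s := by
    intro s k g hk hg
    rw [hgam k g hk hg]
    exact appLE_inv (hinv _ ⟨k, g, hk, hg, hγ k g hk hg⟩) _ s
  have hone : ρC 1 = 1 := by
    have h1 := htup PUnit (fun _ => 1)
    have h2 : {x : PUnit.{u+1} → Γ(R, O) | ∃ (k : Matrix (Fin b) (Fin b) K) (g : Matrix (Fin a) (Fin a) K),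
        k.det ≠ 0 ∧ g.det ≠ 0 ∧ x = fun t => gam k g 1 - 1} ⊆ {0} := by
      rintro _ ⟨k, g, _, _, rfl⟩
      rw [Set.mem_singleton_iff]
      funext t
      rw [map_one, sub_self]
      rfl
    have h3 := Submodule.span_mono (R := K) h2 h1
    rw [Submodule.span_singleton_eq_bot.2 rfl, Submodule.mem_bot] at h3
    have h4 := congrFun h3 PUnit.unit
    exact sub_eq_zero.1 h4
  refine ⟨r, ⟨fun x y => hinj ?_, hinj ?_, fun s x => hinj ?_, ?_, ?_⟩⟩
  · rw [hr, hadd, map_add, hr, hr]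
  · rw [hr, hone, map_one]
  · rw [hr, hlin _ (hbase s), map_mul, hr]
  · rintro g' ⟨γ', ⟨k, g, hk, hg, hkg⟩, e1, rfl⟩ x
    apply hinj
    have h5 : γ' = γ k g hk hg := by
      rw [← cancel_mono j, hkg, hγ k g hk hg]
    subst h5
    have h6 := hginv k g hk hg x
    rw [hgam k g hk hg] at h6
    rw [hr, hr]
    exact h6
  · intro ι _ x
    have h1 := htup ι x
    have h2 : (fun t => (π.app W).hom (r (x t)) - x t) = fun t => ρC (x t) - x t := by
      funext t
      rw [hr]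
    rw [h2]
    -- the additive group generated by the differences is stable under `K`
    let A := AddSubgroup.closure (Dif (π.app W).hom (kap κ W) (Sec π {γ | IsAct sS j γ} W) x)
    have hA : ∀ (z : K) (y : ι → Γ(R, O)), y ∈ A → z • y ∈ A := by
      intro z y hy
      induction hy using AddSubgroup.closure_induction with
      | zero => rw [smul_zero]; exact A.zero_mem
      | add y y' _ _ hy hy' => rw [smul_add]; exact A.add_mem hy hy'
      | neg y _ hy => rw [smul_neg]; exact A.neg_mem hy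
      | mem y hy =>
        obtain ⟨g', hg', w, rfl⟩ := hy
        refine AddSubgroup.subset_closure ⟨g', hg', z * w, ?_⟩
        funext t
        rw [Pi.smul_apply, Algebra.smul_def, ← hκ, ← mul_assoc, ← map_mul, ← map_mul]
    change _ ∈ A
    refine Submodule.span_induction (p := fun y _ => y ∈ A) ?_ A.zero_mem (fun y y' _ _ => A.add_mem)
      (fun z y _ hy => hA z y hy) h1
    rintro _ ⟨k, g, hk, hg, rfl⟩
    refine AddSubgroup.subset_closure ⟨gam k g, ?_, 1, ?_⟩
    · rw [hgam k g hk hg]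
      exact ⟨_, ⟨k, g, hk, hg, hγ k g hk hg⟩, _, rfl⟩
    · funext t
      rw [map_one, map_one, one_mul]

/-- the constants of a scheme over `P^m_S` -/
noncomputable abbrev kc (sS : S ⟶ Spec (CommRingCat.of K)) (c : M ⟶ CohB1.ProjSpaceOver m S) : K →+* Γ(M, ⊤) :=
  sOf (c ≫ CohB1.ProjSpaceOver.toBase m S ≫ sS)

/-- **The quotient**, with its universal properties. -/
theorem exists_quot_GQ (P : Pack a b h m e f ρ) (sS : S ⟶ Spec (CommRingCat.of K)) (j : R ⟶ AS a b h S)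
    [IsImmersion j] (hle : Set.range j ⊆ ssOpen sS f)
    (hcl : ∃ Z : Set (AS a b h S), IsClosed Z ∧ Set.range j = Z ∩ ssOpen sS f) (hst : IsStable sS j) :
    ∃ (M : Scheme.{u}) (c : M ⟶ CohB1.ProjSpaceOver m S) (π : R ⟶ M), IsClosedImmersion c ∧
      π ≫ c = pn (tt j) (FF f sS j) (iSup_FF sS j hle) ∧
      (∀ (T : Scheme.{u}) (x y : T ⟶ R), K585.KronK.Rel j x y → x ≫ π = y ≫ π) ∧
      GQ (kc sS c) π {γ | IsAct sS j γ} ∧
      ∀ (i : Fin (m + 1)) (U : S.Opens), IsAffineOpen U →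
        GoodS (kc sS c) π {γ | IsAct sS j γ} (c ⁻¹ᵁ Wc S m i U) := by
  let q := pn (tt j) (FF f sS j) (iSup_FF sS j hle)
  have hqpre : ∀ i (U : S.Opens), q ⁻¹ᵁ Wc S m i U = j ⁻¹ᵁ OA sS f i U := by
    intro i U
    rw [← basicOpen_FF]
    exact pn_preimage (hF := iSup_FF sS j hle) i U
  have haff : IsAffineHom q := isAffineHom_of_forall_exists_isAffineOpen q fun x => by
    obtain ⟨i, U, hU, hx⟩ := exists_mem_Wc x
    refine ⟨Wc S m i U, hx, isAffineOpen_Wc i hU, ?_⟩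
    rw [hqpre]
    exact isAffineOpen_chart hcl i hU
  have hqc : QuasiCompact q := inferInstance
  let c := q.imageι
  let π := q.toImage
  have hπ : π ≫ c = q := q.toImage_imageι
  have hc : IsClosedImmersion c := by
    change IsClosedImmersion q.ker.subschemeι
    infer_instance
  have hrel : ∀ (T : Scheme.{u}) (x y : T ⟶ R), K585.KronK.Rel j x y → x ≫ π = y ≫ π := by
    intro T x y hxy
    rw [← cancel_mono c, Category.assoc, Category.assoc, hπ]
    exact comp_pn_eq P (iSup_FF sS j hle) x y hxy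
  have hinv : ∀ γ : R ⟶ R, IsAct sS j γ → γ ≫ π = π := by
    intro γ hγ
    rw [← hrel R _ _ (rel_of_isAct hγ), Category.id_comp]
  have hgood : ∀ (i : Fin (m + 1)) (U : S.Opens), IsAffineOpen U →
      GoodS (kc sS c) π {γ | IsAct sS j γ} (c ⁻¹ᵁ Wc S m i U) := by
    intro i U hU
    refine ⟨(isAffineOpen_Wc i hU).preimage c, ?_, ?_⟩
    · rw [preimage_chart hπ i U]
      exact isAffineOpen_chart hcl i hU
    · exact exists_rd P hcl hst hπ hinv i hU (q.toImage_app_injective ⟨Wc S m i U, isAffineOpen_Wc i hU⟩)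
  refine ⟨q.image, c, π, hc, hπ, hrel, ⟨hinv, fun x => ?_⟩, hgood⟩
  obtain ⟨i, U, hU, hx⟩ := exists_mem_Wc (c x)
  exact ⟨c ⁻¹ᵁ Wc S m i U, hx, hgood i U hU⟩

/-- **JOB 39**: the good quotient of the semistable Kronecker modules. -/
theorem isQuot_of_GQ {sS : S ⟶ Spec (CommRingCat.of K)} {j : R ⟶ AS a b h S} {hF : ⨆ i, R.basicOpen (FF f sS j i) = ⊤}
    {c : M ⟶ CohB1.ProjSpaceOver m S} {π : R ⟶ M} (hc : IsClosedImmersion c) (hπ : π ≫ c = pn (tt j) (FF f sS j) hF)
    (hrel : ∀ (T : Scheme.{u}) (x y : T ⟶ R), K585.KronK.Rel j x y → x ≫ π = y ≫ π)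
    {κ : K →+* Γ(M, ⊤)} (H : GQ κ π {γ | IsAct sS j γ}) : IsQuot sS j c π where
  closed := hc
  surj := H.surjective
  comp := by rw [reassoc_of% hπ, pn_toBase]
  rel := hrel
  cat N ψ hψ := H.existsUnique_desc ψ hψ
  isClosed Z hZ hZ' := H.isClosed_image hZ hZ'
  disj Z Z' hZ hZ' hd h1 h2 := H.disjoint_image hZ hZ' hd h1 h2
  affine := H.isAffineHom
  reynolds V hV := by
    obtain ⟨r, h1, h2, h3, -⟩ := H.exists_reynolds V
    exact ⟨r, h1, h2, fun y hy => h3 y (fun γ hγ h => hy γ hγ h)⟩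

/-- the statement of the plan, `K585.PlanK.exists_quot` -/
theorem exists_quot (P : Pack a b h m e f ρ) (sS : S ⟶ Spec (CommRingCat.of K)) [LocallyOfFiniteType sS]
    [QuasiCompact sS] [IsSeparated sS] (j : R ⟶ AS a b h S) [IsImmersion j] (hle : Set.range j ⊆ ssOpen sS f)
    (hcl : ∃ Z : Set (AS a b h S), IsClosed Z ∧ Set.range j = Z ∩ ssOpen sS f) (hst : IsStable sS j) :
    ∃ (M : Scheme.{u}) (c : M ⟶ CohB1.ProjSpaceOver m S) (π : R ⟶ M), IsQuot sS j c π := by
  obtain ⟨M, c, π, h1, h2, h3, h4, -⟩ := exists_quot_GQ P sS j hle hcl hst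
  exact ⟨M, c, π, isQuot_of_GQ h1 h2 h3 h4⟩

end K739.KrQuot
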