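import Groth.Agent.Coherent.K585.KronK
import Mathlib.RingTheory.Polynomial.Cyclotomic.Roots
import Mathlib.FieldTheory.IsAlgClosed.Basic
import Mathlib.Algebra.MvPolynomial.Funext
import Mathlib.LinearAlgebra.Matrix.GeneralLinearGroup.Defs

/-!
# Kronecker modules: semi-invariance over arbitrary rings

`K739.KrSemi.exists_weights`: `f_j (k α g) = det k ^ s * det g ^ t * f_j α` over every commutative ring with a map from `K`,
for the generators `f_j` of a pack.
-/

set_option autoImplicit false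
set_option linter.unusedVariables false

universe u

open MvPolynomial K585.KronK

namespace K739.KrSemi

variable {K : Type u} [Field K] {a b h : ℕ}

theorem evr_C {B : Type*} [CommRing B] (c : K →+* B) (α : Kr a b h B) (z : K) : evr c α (C z) = c z :=
  eval₂Hom_C _ _ _

theorem evr_X {B : Type*} [CommRing B] (c : K →+* B) (α : Kr a b h B) (p : Idx a b h) :
    evr c α (X p) = α p.1 p.2.1 p.2.2 := eval₂Hom_X' _ _ _

/-- naturality of evaluation -/
theorem map_evr {B B' : Type*} [CommRing B] [CommRing B'] (φ : B →+* B') (c : K →+* B) (α : Kr a b h B)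
    (p : Poly K a b h) : φ (evr c α p) = evr (φ.comp c) (fun l => (α l).map φ) p := by
  have : φ.comp (evr c α) = evr (φ.comp c) (fun l => (α l).map φ) := by
    apply MvPolynomial.ringHom_ext
    · intro r; rw [RingHom.comp_apply, evr_C, evr_C, RingHom.comp_apply]
    · intro q; rw [RingHom.comp_apply, evr_X, evr_X, Matrix.map_apply]
  exact congr($this p)

/-- naturality of the action -/
theorem map_act {B B' : Type*} [CommRing B] [CommRing B'] (φ : B →+* B') (k : Matrix (Fin b) (Fin b) B)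
    (g : Matrix (Fin a) (Fin a) B) (α : Kr a b h B) :
    (fun l => ((act k g α) l).map φ) = act (k.map φ) (g.map φ) (fun l => (α l).map φ) := by
  funext l
  rw [act, act, Matrix.map_mul, Matrix.map_mul]

theorem evr_smul {B : Type*} [CommRing B] (c : K →+* B) (α : Kr a b h B) (v : B) {p : Poly K a b h} {e : ℕ}
    (hp : p.IsHomogeneous e) : evr c (fun l => v • α l) p = v ^ e * evr c α p := by
  rw [evr, evr, coe_eval₂Hom, coe_eval₂Hom, eval₂_eq', eval₂_eq', Finset.mul_sum]
  apply Finset.sum_congr rfl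
  intro d hd
  have h1 : ∑ i, d i = e := by
    rw [hp.degree_eq_sum_deg_support hd]
    exact (Finset.sum_subset (Finset.subset_univ _) (by
      intro i _ hi
      simpa using hi)).symm
  have h2 : ∀ q : Idx a b h, (v • α q.1) q.2.1 q.2.2 = v * α q.1 q.2.1 q.2.2 := fun q => by
    rw [Matrix.smul_apply, smul_eq_mul]
  simp only [h2, mul_pow, Finset.prod_mul_distrib]
  rw [Finset.prod_pow_eq_pow_sum, h1]
  ring

theorem act_act {B : Type*} [CommRing B] (k k' : Matrix (Fin b) (Fin b) B) (g g' : Matrix (Fin a) (Fin a) B)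
    (α : Kr a b h B) : act k g (act k' g' α) = act (k * k') (g' * g) α := by
  funext l
  simp only [act, Matrix.mul_assoc]

theorem act_smul_left {B : Type*} [CommRing B] (v w : B) (k : Matrix (Fin b) (Fin b) B)
    (g : Matrix (Fin a) (Fin a) B) (α : Kr a b h B) : act (v • k) (w • g) α = fun l => (v * w) • act k g α l := by
  funext l
  simp only [act, Matrix.smul_mul, Matrix.mul_smul, smul_smul]
  rw [mul_comm w v]

/-- a polynomial with all values zero is zero -/
theorem exists_ne [Infinite K] {p : Poly K a b h} (hp : p ≠ 0) : ∃ α : Kr a b h K, evr (RingHom.id K) α p ≠ 0 := by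
  by_contra hcon
  push Not at hcon
  apply hp
  apply MvPolynomial.funext
  intro x
  rw [map_zero]
  have := hcon (fun l i j => x (l, i, j))
  exact this

theorem exists_prim [IsAlgClosed K] [CharZero K] {n : ℕ} (hn : 0 < n) : ∃ ζ : K, IsPrimitiveRoot ζ n := by
  have : NeZero (n : K) := ⟨Nat.cast_ne_zero.2 hn.ne'⟩
  obtain ⟨ζ, hζ⟩ := IsAlgClosed.exists_root (Polynomial.cyclotomic n K) (by
    rw [Polynomial.degree_cyclotomic]
    exact_mod_cast (Nat.totient_pos.2 hn).ne')
  exact ⟨ζ, Polynomial.isRoot_cyclotomic_iff.1 hζ⟩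

theorem dvd_left [IsAlgClosed K] [CharZero K] {p : Poly K a b h} {e : ℕ} (hb : 0 < b) (he : p.IsHomogeneous e) (hi : IsInv p) (hp : p ≠ 0) :
    b ∣ e := by
  obtain ⟨α, hα⟩ := exists_ne hp
  obtain ⟨ζ, hz⟩ := exists_prim (K := K) hb
  have h1 := hi (ζ • 1) ((1 : K) • 1) α (by
    rw [Matrix.det_smul, Matrix.det_one, mul_one, Fintype.card_fin]
    exact hz.pow_eq_one) (by rw [one_smul, Matrix.det_one])
  rw [act_smul_left, mul_one] at h1
  have h2 : act (1 : Matrix (Fin b) (Fin b) K) (1 : Matrix (Fin a) (Fin a) K) α = α := by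
    funext l; simp [act]
  rw [h2, evr_smul _ _ _ he] at h1
  exact hz.dvd_of_pow_eq_one _ (mul_right_cancel₀ hα (h1.trans (one_mul _).symm))

theorem dvd_right [IsAlgClosed K] [CharZero K] {p : Poly K a b h} {e : ℕ} (ha : 0 < a) (he : p.IsHomogeneous e) (hi : IsInv p) (hp : p ≠ 0) :
    a ∣ e := by
  obtain ⟨α, hα⟩ := exists_ne hp
  obtain ⟨ζ, hz⟩ := exists_prim (K := K) ha
  have h1 := hi ((1 : K) • 1) (ζ • 1) α (by rw [one_smul, Matrix.det_one]) (by
    rw [Matrix.det_smul, Matrix.det_one, mul_one, Fintype.card_fin]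
    exact hz.pow_eq_one)
  rw [act_smul_left, one_mul] at h1
  have h2 : act (1 : Matrix (Fin b) (Fin b) K) (1 : Matrix (Fin a) (Fin a) K) α = α := by
    funext l; simp [act]
  rw [h2, evr_smul _ _ _ he] at h1
  exact hz.dvd_of_pow_eq_one _ (mul_right_cancel₀ hα (h1.trans (one_mul _).symm))

theorem exists_root [IsAlgClosed K] {n : ℕ} (hn : 0 < n) {z : K} (hz : z ≠ 0) : ∃ w : K, w ≠ 0 ∧ w ^ n = z := by
  obtain ⟨w, hw⟩ := IsAlgClosed.exists_pow_nat_eq z hn
  refine ⟨w, ?_, hw⟩
  rintro rfl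
  rw [zero_pow hn.ne'] at hw
  exact hz hw.symm

/-- semi-invariance at `K`-points -/
theorem complex_semi [IsAlgClosed K] [CharZero K] {p : Poly K a b h} {e : ℕ} (ha : 0 < a) (hb : 0 < b) (he : p.IsHomogeneous e) (hi : IsInv p)
    (hp : p ≠ 0) (k : Matrix (Fin b) (Fin b) K) (g : Matrix (Fin a) (Fin a) K) (α : Kr a b h K) (hk : k.det ≠ 0)
    (hg : g.det ≠ 0) :
    evr (RingHom.id K) (act k g α) p = k.det ^ (e / b) * g.det ^ (e / a) * evr (RingHom.id K) α p := by
  obtain ⟨v, hv, hvk⟩ := exists_root hb hk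
  obtain ⟨w, hw, hwg⟩ := exists_root ha hg
  have h1 : k = v • (v⁻¹ • k) := by rw [smul_smul, mul_inv_cancel₀ hv, one_smul]
  have h2 : g = w • (w⁻¹ • g) := by rw [smul_smul, mul_inv_cancel₀ hw, one_smul]
  have h3 : (v⁻¹ • k).det = 1 := by
    rw [Matrix.det_smul, Fintype.card_fin, ← hvk, ← mul_pow, inv_mul_cancel₀ hv, one_pow]
  have h4 : (w⁻¹ • g).det = 1 := by
    rw [Matrix.det_smul, Fintype.card_fin, ← hwg, ← mul_pow, inv_mul_cancel₀ hw, one_pow]
  have h5 := hi (v⁻¹ • k) (w⁻¹ • g) α h3 h4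
  have h6 : act k g α = fun l => (v * w) • act (v⁻¹ • k) (w⁻¹ • g) α l := by
    conv_lhs => rw [h1, h2, act_smul_left]
  rw [h6, evr_smul _ _ _ he, h5, ← hvk, ← hwg, ← pow_mul, ← pow_mul, Nat.mul_div_cancel' (dvd_left hb he hi hp),
    Nat.mul_div_cancel' (dvd_right ha he hi hp), mul_pow]

section Univ

/-- the universal matrices -/
abbrev UI (a b h : ℕ) : Type := (Fin b × Fin b) ⊕ (Fin a × Fin a) ⊕ Idx a b h

abbrev UP (K : Type u) [Field K] (a b h : ℕ) := MvPolynomial (UI a b h) K

noncomputable def KK (K : Type u) [Field K] (a b h : ℕ) : Matrix (Fin b) (Fin b) (UP K a b h) := fun i j => X (Sum.inl (i, j))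
noncomputable def GG (K : Type u) [Field K] (a b h : ℕ) : Matrix (Fin a) (Fin a) (UP K a b h) := fun i j => X (Sum.inr (Sum.inl (i, j)))
noncomputable def AA (K : Type u) [Field K] (a b h : ℕ) : Kr a b h (UP K a b h) := fun l i j => X (Sum.inr (Sum.inr (l, i, j)))

/-- evaluation of the universal matrices -/
noncomputable def ev {B : Type*} [CommRing B] (c : K →+* B) (k : Matrix (Fin b) (Fin b) B)
    (g : Matrix (Fin a) (Fin a) B) (α : Kr a b h B) : UP K a b h →+* B :=
  eval₂Hom c (Sum.elim (fun q => k q.1 q.2) (Sum.elim (fun q => g q.1 q.2) (fun q => α q.1 q.2.1 q.2.2)))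

variable {B : Type*} [CommRing B] (c : K →+* B) (k : Matrix (Fin b) (Fin b) B)
    (g : Matrix (Fin a) (Fin a) B) (α : Kr a b h B)

theorem ev_KK : (KK K a b h).map (ev c k g α) = k := by
  ext i j
  rw [Matrix.map_apply, KK, ev]
  exact eval₂Hom_X' _ _ _

theorem ev_GG : (GG K a b h).map (ev c k g α) = g := by
  ext i j
  rw [Matrix.map_apply, GG, ev]
  exact eval₂Hom_X' _ _ _

theorem ev_AA : (fun l => (AA K a b h l).map (ev c k g α)) = α := by
  funext l
  ext i j
  rw [Matrix.map_apply, AA, ev]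
  exact eval₂Hom_X' _ _ _

theorem ev_C : (ev c k g α).comp C = c := by
  ext z
  · exact eval₂Hom_C _ _ _

theorem ev_lhs (p : Poly K a b h) : ev c k g α (evr C (act (KK K a b h) (GG K a b h) (AA K a b h)) p) = evr c (act k g α) p := by
  rw [map_evr, map_act, ev_KK, ev_GG, ev_AA, ev_C]

theorem ev_rhs (p : Poly K a b h) : ev c k g α (evr C (AA K a b h) p) = evr c α p := by
  rw [map_evr, ev_AA, ev_C]

theorem ev_detK : ev c k g α (KK K a b h).det = k.det := by
  rw [RingHom.map_det]
  congr 1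
  exact ev_KK c k g α

theorem ev_detG : ev c k g α (GG K a b h).det = g.det := by
  rw [RingHom.map_det]
  congr 1
  exact ev_GG c k g α

theorem detK_ne : (KK K a b h).det ≠ 0 := by
  intro h0
  have := ev_detK (RingHom.id K) (1 : Matrix (Fin b) (Fin b) K) (1 : Matrix (Fin a) (Fin a) K)
    (fun _ => 0 : Kr a b h K)
  rw [h0, map_zero, Matrix.det_one] at this
  exact zero_ne_one this

theorem detG_ne : (GG K a b h).det ≠ 0 := by
  intro h0
  have := ev_detG (RingHom.id K) (1 : Matrix (Fin b) (Fin b) K) (1 : Matrix (Fin a) (Fin a) K)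
    (fun _ => 0 : Kr a b h K)
  rw [h0, map_zero, Matrix.det_one] at this
  exact zero_ne_one this

/-- the identity for the universal matrices -/
theorem univ_semi [Infinite K] {p : Poly K a b h} {s t : ℕ}
    (hC : ∀ (k : Matrix (Fin b) (Fin b) K) (g : Matrix (Fin a) (Fin a) K) (α : Kr a b h K), k.det ≠ 0 → g.det ≠ 0 →
      evr (RingHom.id K) (act k g α) p = k.det ^ s * g.det ^ t * evr (RingHom.id K) α p) :
    evr C (act (KK K a b h) (GG K a b h) (AA K a b h)) p = (KK K a b h).det ^ s * (GG K a b h).det ^ t *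
      evr C (AA K a b h) p := by
  have key : (evr C (act (KK K a b h) (GG K a b h) (AA K a b h)) p - (KK K a b h).det ^ s *
      (GG K a b h).det ^ t * evr C (AA K a b h) p) *
      ((KK K a b h).det * (GG K a b h).det) = 0 := by
    apply MvPolynomial.funext
    intro x
    rw [map_zero]
    let k : Matrix (Fin b) (Fin b) K := fun i j => x (Sum.inl (i, j))
    let g : Matrix (Fin a) (Fin a) K := fun i j => x (Sum.inr (Sum.inl (i, j)))
    let α : Kr a b h K := fun l i j => x (Sum.inr (Sum.inr (l, i, j)))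
    have hx : (eval x : UP K a b h →+* K) = ev (RingHom.id K) k g α := by
      apply MvPolynomial.ringHom_ext
      · intro r
        rw [eval_C, ev, eval₂Hom_C, RingHom.id_apply]
      · rintro (q | q | q)
        · rw [eval_X, ev, eval₂Hom_X']; rfl
        · rw [eval_X, ev, eval₂Hom_X']; rfl
        · rw [eval_X, ev, eval₂Hom_X']; rfl
    rw [hx, map_mul, map_mul, ev_detK, ev_detG, map_sub, map_mul, map_mul, map_pow, map_pow, ev_detK, ev_detG, ev_lhs,
      ev_rhs]
    by_cases hk : k.det = 0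
    · rw [hk, zero_mul, mul_zero]
    by_cases hg : g.det = 0
    · rw [hg, mul_zero, mul_zero]
    rw [hC k g α hk hg, sub_self, zero_mul]
  rcases mul_eq_zero.1 key with h1 | h1
  · exact sub_eq_zero.1 h1
  · rcases mul_eq_zero.1 h1 with h1 | h1
    · exact absurd h1 detK_ne
    · exact absurd h1 detG_ne

end Univ

/-- **Semi-invariance over any ring.** -/
theorem exists_weights [IsAlgClosed K] [CharZero K] {m e : ℕ} {f : Fin (m + 1) → Poly K a b h} (he0 : 0 < e) (he : ∀ j, (f j).IsHomogeneous e)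
    (hi : ∀ j, IsInv (f j)) :
    ∃ s t : ℕ, ∀ (j : Fin (m + 1)) (B : Type u) [CommRing B] (c : K →+* B) (k : Matrix (Fin b) (Fin b) B)
      (g : Matrix (Fin a) (Fin a) B) (α : Kr a b h B),
      evr c (act k g α) (f j) = k.det ^ s * g.det ^ t * evr c α (f j) := by
  refine ⟨e / b, e / a, ?_⟩
  intro j B _ c k g α
  by_cases hf : f j = 0
  · rw [hf, map_zero, map_zero, mul_zero]
  have hidx : Nonempty (Idx a b h) := by
    by_contra hcon
    rw [not_nonempty_iff] at hcon
    apply hf
    obtain ⟨z, hz⟩ := MvPolynomial.C_surjective (Idx a b h) (f j)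
    have h0 : (f j).IsHomogeneous 0 := hz ▸ isHomogeneous_C _ z
    by_contra hne
    exact he0.ne' ((he j).inj_right h0 hne)
  have hb : 0 < b := by
    obtain ⟨_, i, _⟩ := hidx
    exact i.pos
  have ha : 0 < a := by
    obtain ⟨_, _, i⟩ := hidx
    exact i.pos
  have h1 := univ_semi (fun k g α hk hg => complex_semi ha hb (he j) (hi j) hf k g α hk hg)
  have h2 := congr(ev c k g α $h1)
  rwa [ev_lhs, map_mul, map_mul, map_pow, map_pow, ev_detK, ev_detG, ev_rhs] at h2

end K739.KrSemi
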