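import Groth.Agent.Coherent.K739.GoodS
import Mathlib.AlgebraicGeometry.Morphisms.SchemeTheoreticallyDominant

/-!
# Universally good quotients for a set of endomorphisms: the structure `GQ`

`GQ κ π 𝒢`: the elements of `𝒢` are endomorphisms of `R` over `M`, and `M` is covered by affine opens `W` over which
`π : R ⟶ M` is affine with a Reynolds operator. Consequences: `π` is affine, scheme-theoretically dominant, surjective,
images of closed stable sets are closed, disjoint closed stable sets have disjoint images, `π` is a categorical quotient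
among all schemes, `Γ(M, V)` is the ring of invariants with a Reynolds operator for every open `V`, and all this is stable
under arbitrary base change.
-/

set_option autoImplicit false
set_option linter.unusedVariables false
set_option linter.unusedSectionVars false
set_option backward.isDefEq.respectTransparency false
set_option backward.isDefEq.respectTransparency.types false

universe v u
open CategoryTheory CategoryTheory.Limits AlgebraicGeometry TopologicalSpace K739.RdAlg Opposite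

namespace K739.GoodQ

variable {K : Type v} [CommRing K] {R M R' M' : Scheme.{u}}

/-- Universally good quotient. -/
structure GQ (κ : K →+* Γ(M, ⊤)) (π : R ⟶ M) (𝒢 : Set (R ⟶ R)) : Prop where
  inv : ∀ γ ∈ 𝒢, γ ≫ π = π
  cover : ∀ x : M, ∃ W : M.Opens, x ∈ W ∧ GoodS κ π 𝒢 W

variable {κ : K →+* Γ(M, ⊤)} {π : R ⟶ M} {𝒢 : Set (R ⟶ R)}

/-- restriction of functions -/
noncomputable abbrev rs {V W : M.Opens} (h : W ≤ V) : Γ(M, V) →+* Γ(M, W) := (M.presheaf.map (homOfLE h).op).hom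

theorem rs_rs {V W Z : M.Opens} (h : W ≤ V) (h' : Z ≤ W) (s : Γ(M, V)) : rs h' (rs h s) = rs (h'.trans h) s := by
  change (M.presheaf.map (homOfLE h).op ≫ M.presheaf.map (homOfLE h').op) s = _
  rw [← Functor.map_comp]
  rfl

theorem rs_app (π : R ⟶ M) {V W : M.Opens} (h : W ≤ V) (h' : π ⁻¹ᵁ W ≤ π ⁻¹ᵁ V) (s : Γ(M, V)) :
    rs h' ((π.app V).hom s) = (π.app W).hom (rs h s) := by
  have := π.naturality (homOfLE h).op
  exact congr($this s).symm

section

variable (H : GQ κ π 𝒢)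

include H

theorem GQ.good (x : M) : ∃ W : M.Opens, x ∈ W ∧ Good π 𝒢 W := by
  obtain ⟨W, h1, h2⟩ := H.cover x
  exact ⟨W, h1, h2.good⟩

/-- small good opens -/
theorem GQ.exists_le {x : M} {V : M.Opens} (hx : x ∈ V) : ∃ W : M.Opens, x ∈ W ∧ W ≤ V ∧ GoodS κ π 𝒢 W := by
  obtain ⟨W, h1, h2⟩ := H.cover x
  obtain ⟨_, ⟨W', hW', rfl⟩, hxW', hle⟩ := M.isBasis_affineOpens.exists_subset_of_mem_open
    (show x ∈ W ⊓ V from ⟨h1, hx⟩) (W ⊓ V).isOpen
  have hle : W' ≤ W ⊓ V := hle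
  exact ⟨W', hxW', hle.trans inf_le_right, h2.of_le H.inv hW' (hle.trans inf_le_left)⟩

theorem GQ.isAffineHom : IsAffineHom π :=
  isAffineHom_of_forall_exists_isAffineOpen π fun x => by
    obtain ⟨W, h1, h2⟩ := H.cover x
    exact ⟨W, h1, h2.aff, h2.aff'⟩

/-- sections are equal if they are so on the good opens -/
theorem GQ.eq_of {V : M.Opens} {s t : Γ(M, V)} (h : ∀ (W : M.Opens) (hW : W ≤ V), GoodS κ π 𝒢 W → rs hW s = rs hW t) :
    s = t := by
  refine M.sheaf.eq_of_locally_eq' (ι := {W : M.Opens // W ≤ V ∧ GoodS κ π 𝒢 W}) (fun W => W.1) V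
    (fun W => homOfLE W.2.1) ?_ s t (fun W => h W.1 W.2.1 W.2.2)
  intro x hx
  obtain ⟨W, h1, h2, h3⟩ := H.exists_le hx
  exact Opens.mem_iSup.2 ⟨⟨W, h2, h3⟩, h1⟩

theorem GQ.app_injective (V : M.Opens) : Function.Injective (π.app V).hom := by
  intro s t hst
  refine H.eq_of fun W hW hWg => ?_
  obtain ⟨r, hr⟩ := hWg.ex
  apply hr.injective
  have h1 : π ⁻¹ᵁ W ≤ π ⁻¹ᵁ V := π.preimage_mono hW
  rw [← rs_app π hW h1, ← rs_app π hW h1, hst]

theorem GQ.dominant : IsSchemeTheoreticallyDominant π := by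
  have := H.isAffineHom
  constructor
  ext U x
  rw [π.ker_apply]
  constructor
  · intro h
    have h2 : x = 0 := H.app_injective U.1 (by
      rw [map_zero]
      exact h)
    rw [h2]
    exact Ideal.zero_mem _
  · intro h
    have h2 : x = 0 := h
    rw [h2]
    exact Ideal.zero_mem _

theorem GQ.surjective : Surjective π := by
  have := H.isAffineHom
  have := H.dominant
  exact K739.GoodQ.surjective H.inv H.good

theorem GQ.epi : Epi π := by
  have := H.isAffineHom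
  have := H.dominant
  have := H.surjective
  exact epi_of_dominant_surjective π

/-- images of closed stable sets are closed -/
theorem GQ.isClosed_image {Z : Set R} (hZc : IsClosed Z) (hZ : ∀ γ ∈ 𝒢, γ '' Z ⊆ Z) : IsClosed (π '' Z) := by
  have := H.isAffineHom
  have := H.dominant
  exact K739.GoodQ.isClosed_image H.inv H.good hZc hZ

/-- disjoint closed stable sets have disjoint images -/
theorem GQ.disjoint_image {Z Z' : Set R} (hZc : IsClosed Z) (hZ'c : IsClosed Z') (hd : Disjoint Z Z')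
    (hZ : ∀ γ ∈ 𝒢, γ '' Z ⊆ Z) (hZ' : ∀ γ ∈ 𝒢, γ '' Z' ⊆ Z') : Disjoint (π '' Z) (π '' Z') := by
  have := H.isAffineHom
  have := H.dominant
  exact K739.GoodQ.disjoint_image H.inv H.good hZc hZ'c hd hZ hZ'

/-- families of closed stable sets with empty intersection -/
theorem GQ.iInter_image {ι : Type*} (Z : ι → Set R) (hZc : ∀ l, IsClosed (Z l)) (hZ : ∀ l, ∀ γ ∈ 𝒢, γ '' (Z l) ⊆ Z l)
    (hemp : ⋂ l, Z l = ∅) : ⋂ l, π '' Z l = ∅ := by
  have := H.isAffineHom
  have := H.dominant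
  rw [Set.eq_empty_iff_forall_notMem]
  intro x hx
  obtain ⟨W, h1, h2⟩ := H.good x
  obtain ⟨l, s, hs, hsI⟩ := exists_of_iInter H.inv h2 Z hZc hZ hemp h1
  exact not_mem_of_van hsI hs (Set.mem_iInter.1 hx l)

/-- images of saturated open sets are open: `U ⊆ R` open, stable complement, and a union of fibres -/
theorem GQ.isOpen_image {U : Set R} (hU : IsOpen U) (hZ : ∀ γ ∈ 𝒢, γ '' Uᶜ ⊆ Uᶜ) (hsat : π ⁻¹' (π '' U) ⊆ U) :
    IsOpen (π '' U) := by
  have h1 : (π '' U)ᶜ = π '' Uᶜ := by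
    ext x
    constructor
    · intro hx
      obtain ⟨y, rfl⟩ := H.surjective.surj x
      exact ⟨y, fun hy => hx ⟨y, hy, rfl⟩, rfl⟩
    · rintro ⟨y, hy, rfl⟩ hx
      exact hy (hsat hx)
  rw [← isClosed_compl_iff, h1]
  exact H.isClosed_image hU.isClosed_compl hZ

/-- `π` is a categorical quotient among all schemes -/
theorem GQ.existsUnique_desc {N : Scheme.{u}} (ψ : R ⟶ N) (hψ : ∀ γ ∈ 𝒢, γ ≫ ψ = ψ) : ∃! χ : M ⟶ N, π ≫ χ = ψ := by
  have := H.isAffineHom
  have := H.dominant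
  exact K739.GoodQ.existsUnique_desc H.inv H.good ψ hψ

/-- **Arbitrary base change.** -/
theorem GQ.baseChange {p' : R' ⟶ R} {π' : R' ⟶ M'} {q : M' ⟶ M} {𝒢' : Set (R' ⟶ R')} (sq : IsPullback p' π' π q)
    (L : Lifts p' π' 𝒢 𝒢') : GQ ((q.appTop).hom.comp κ) π' 𝒢' where
  inv := L.inv
  cover x := by
    obtain ⟨W, h1, h2⟩ := H.cover (q x)
    obtain ⟨_, ⟨W', hW', rfl⟩, hxW', hle⟩ := M'.isBasis_affineOpens.exists_subset_of_mem_open
      (show x ∈ q ⁻¹ᵁ W from h1) (q ⁻¹ᵁ W).isOpen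
    exact ⟨W', hxW', h2.baseChange sq H.inv L hW' hle⟩

end

/-- the base change of a set of endomorphisms -/
def bc (p' : R' ⟶ R) (π' : R' ⟶ M') (𝒢 : Set (R ⟶ R)) : Set (R' ⟶ R') :=
  {γ' | γ' ≫ π' = π' ∧ ∃ γ ∈ 𝒢, γ' ≫ p' = p' ≫ γ}

theorem lifts_bc {p' : R' ⟶ R} {π' : R' ⟶ M'} {q : M' ⟶ M} (hγ : ∀ γ ∈ 𝒢, γ ≫ π = π) (sq : IsPullback p' π' π q) :
    Lifts p' π' 𝒢 (bc p' π' 𝒢) where
  ex γ hγ' := by
    have h1 : (p' ≫ γ) ≫ π = π' ≫ q := by rw [Category.assoc, hγ γ hγ', sq.w]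
    exact ⟨sq.lift (p' ≫ γ) π' h1, ⟨sq.lift_snd _ _ h1, γ, hγ', sq.lift_fst _ _ h1⟩, sq.lift_fst _ _ h1⟩
  inv γ' hγ' := hγ'.1
  lift γ' hγ' := hγ'.2

theorem GQ.baseChange' (H : GQ κ π 𝒢) {p' : R' ⟶ R} {π' : R' ⟶ M'} {q : M' ⟶ M} (sq : IsPullback p' π' π q) :
    GQ ((q.appTop).hom.comp κ) π' (bc p' π' 𝒢) :=
  H.baseChange sq (lifts_bc H.inv sq)

end K739.GoodQ
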