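import Mathlib.AlgebraicGeometry.Morphisms.SchemeTheoreticallyDominant
import Mathlib.AlgebraicGeometry.Morphisms.Affine

/-!
# Good quotients for a set of endomorphisms: topology

`K739.GoodQ.Good π 𝒢 W`: over the affine open `W` of `M` the morphism `π : R ⟶ M` is affine and there is a Reynolds
operator on `Γ(R, π⁻¹ W)` for the set `𝒢` of endomorphisms of `R`. If `M` is covered by such opens then `π` is surjective,
images of closed `𝒢`-stable sets are closed, and families of closed stable sets with empty intersection can be separated.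
-/

set_option autoImplicit false
set_option linter.unusedVariables false
set_option linter.unusedSectionVars false
set_option backward.isDefEq.respectTransparency false
set_option backward.isDefEq.respectTransparency.types false

universe u
open CategoryTheory CategoryTheory.Limits AlgebraicGeometry TopologicalSpace

namespace K739.GoodQ

variable {R M : Scheme.{u}} (π : R ⟶ M) (𝒢 : Set (R ⟶ R))

/-- `J` is stable under `𝒢`. -/
def Stable (W : M.Opens) (J : Ideal Γ(R, π ⁻¹ᵁ W)) : Prop :=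
  ∀ γ ∈ 𝒢, ∀ (e : π ⁻¹ᵁ W ≤ γ ⁻¹ᵁ π ⁻¹ᵁ W), ∀ c ∈ J, (γ.appLE _ _ e).hom c ∈ J

/-- Reynolds operator over an affine open. -/
structure Good (W : M.Opens) : Prop where
  aff : IsAffineOpen W
  aff' : IsAffineOpen (π ⁻¹ᵁ W)
  ex : ∃ ρ : Γ(R, π ⁻¹ᵁ W) → Γ(R, π ⁻¹ᵁ W),
    (∀ c d, ρ (c + d) = ρ c + ρ d) ∧
    (∀ c, ∃ s : Γ(M, W), ρ c = (π.app W).hom s) ∧
    (∀ (s : Γ(M, W)) c, ρ ((π.app W).hom s * c) = (π.app W).hom s * ρ c) ∧
    (∀ J : Ideal Γ(R, π ⁻¹ᵁ W), Stable π 𝒢 W J →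
      ∀ c, (∀ γ ∈ 𝒢, ∀ (e : π ⁻¹ᵁ W ≤ γ ⁻¹ᵁ π ⁻¹ᵁ W), (γ.appLE _ _ e).hom c - c ∈ J) → ρ c - c ∈ J)

variable {π 𝒢}

theorem appLE_inv {γ : R ⟶ R} (h : γ ≫ π = π) {W : M.Opens} (e : π ⁻¹ᵁ W ≤ γ ⁻¹ᵁ π ⁻¹ᵁ W) (s : Γ(M, W)) :
    (γ.appLE _ _ e).hom ((π.app W).hom s) = (π.app W).hom s := by
  have h1 : π.app W ≫ γ.appLE _ _ e = π.app W := by
    rw [Scheme.Hom.app_eq_appLE, Scheme.Hom.appLE_comp_appLE]
    simp only [h]
  exact congr($h1 s)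

theorem le_inv {γ : R ⟶ R} (h : γ ≫ π = π) (W : M.Opens) : π ⁻¹ᵁ W ≤ γ ⁻¹ᵁ π ⁻¹ᵁ W := by
  rw [← Scheme.Hom.comp_preimage, h]

theorem mem_basicOpen_iff {W : M.Opens} (hW : IsAffineOpen W) {x : M} (hx : x ∈ W) (s : Γ(M, W)) :
    x ∈ M.basicOpen s ↔ s ∉ (hW.primeIdealOf ⟨x, hx⟩).asIdeal := by
  have h1 := hW.fromSpec_preimage_basicOpen s
  have h2 : hW.fromSpec (hW.primeIdealOf ⟨x, hx⟩) = x := hW.fromSpec_primeIdealOf ⟨x, hx⟩
  have h3 : (hW.primeIdealOf ⟨x, hx⟩) ∈ hW.fromSpec ⁻¹ᵁ M.basicOpen s ↔ x ∈ M.basicOpen s := by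
    change hW.fromSpec (hW.primeIdealOf ⟨x, hx⟩) ∈ M.basicOpen s ↔ x ∈ M.basicOpen s
    rw [h2]
  rw [← h3, h1]
  rfl

theorem mem_basicOpen_fromSpec_iff {W : M.Opens} (hW : IsAffineOpen W) (p : PrimeSpectrum Γ(M, W)) (s : Γ(M, W)) :
    hW.fromSpec p ∈ M.basicOpen s ↔ s ∉ p.asIdeal := by
  have h1 := hW.fromSpec_preimage_basicOpen s
  have h3 : p ∈ hW.fromSpec ⁻¹ᵁ M.basicOpen s ↔ hW.fromSpec p ∈ M.basicOpen s := Iff.rfl
  rw [← h3, h1]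
  rfl

variable [QuasiCompact π] [IsSchemeTheoreticallyDominant π]

/-- Reynolds operators fix the functions of the base. -/
theorem rho_app (hγ : ∀ γ ∈ 𝒢, γ ≫ π = π) {W : M.Opens} {ρ : Γ(R, π ⁻¹ᵁ W) → Γ(R, π ⁻¹ᵁ W)}
    (h4 : ∀ J : Ideal Γ(R, π ⁻¹ᵁ W), Stable π 𝒢 W J →
      ∀ c, (∀ γ ∈ 𝒢, ∀ (e : π ⁻¹ᵁ W ≤ γ ⁻¹ᵁ π ⁻¹ᵁ W), (γ.appLE _ _ e).hom c - c ∈ J) → ρ c - c ∈ J)
    (s : Γ(M, W)) : ρ ((π.app W).hom s) = (π.app W).hom s := by
  have h := h4 ⊥ (by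
    intro γ hγ e c hc
    rw [Ideal.mem_bot] at hc ⊢
    rw [hc, map_zero]) ((π.app W).hom s) (by
    intro γ hγ' e
    rw [Ideal.mem_bot, appLE_inv (hγ γ hγ') e, sub_self])
  rwa [Ideal.mem_bot, sub_eq_zero] at h

theorem rho_mem {W : M.Opens} {ρ : Γ(R, π ⁻¹ᵁ W) → Γ(R, π ⁻¹ᵁ W)}
    (h4 : ∀ J : Ideal Γ(R, π ⁻¹ᵁ W), Stable π 𝒢 W J →
      ∀ c, (∀ γ ∈ 𝒢, ∀ (e : π ⁻¹ᵁ W ≤ γ ⁻¹ᵁ π ⁻¹ᵁ W), (γ.appLE _ _ e).hom c - c ∈ J) → ρ c - c ∈ J)
    {J : Ideal Γ(R, π ⁻¹ᵁ W)} (hJ : Stable π 𝒢 W J) {c : Γ(R, π ⁻¹ᵁ W)} (hc : c ∈ J) : ρ c ∈ J := by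
  have h := h4 J hJ c (fun γ hγ e => J.sub_mem (hJ γ hγ e c hc) hc)
  have h2 := J.add_mem h hc
  rwa [sub_add_cancel] at h2

/-- **Key lemma**: for a stable ideal `I` and a point `x` of `W`, either a function `s` of `W` with `s x ≠ 0` pulls back
into `I`, or `V(I)` meets the fibre of `x`. -/
theorem key (hγ : ∀ γ ∈ 𝒢, γ ≫ π = π) {W : M.Opens} (hW : Good π 𝒢 W) (I : Ideal Γ(R, π ⁻¹ᵁ W))
    (hI : Stable π 𝒢 W I) {x : M} (hx : x ∈ W) :
    (∃ s : Γ(M, W), x ∈ M.basicOpen s ∧ (π.app W).hom s ∈ I) ∨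
      ∃ y : R, y ∈ π ⁻¹ᵁ W ∧ π y = x ∧ ∀ c ∈ I, y ∉ R.basicOpen c := by
  obtain ⟨ρ, h1, h2, h3, h4⟩ := hW.ex
  by_cases hex : ∃ s : Γ(M, W), x ∈ M.basicOpen s ∧ (π.app W).hom s ∈ I
  · exact Or.inl hex
  right
  push Not at hex
  set p := hW.aff.primeIdealOf ⟨x, hx⟩ with hp
  have hmem : ∀ s : Γ(M, W), (π.app W).hom s ∈ I → s ∈ p.asIdeal := by
    intro s hs
    by_contra hsp
    exact hex s ((mem_basicOpen_iff hW.aff hx s).2 hsp) hs
  have hinj : Function.Injective (π.app W).hom := π.app_injective W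
  -- the property satisfied by the elements of `I + p C`
  let P : Γ(R, π ⁻¹ᵁ W) → Prop := fun c => ∃ t ∈ p.asIdeal, ρ c = (π.app W).hom t
  have hadd : ∀ c d, P c → P d → P (c + d) := by
    rintro c d ⟨t, ht, hc⟩ ⟨t', ht', hd⟩
    exact ⟨t + t', p.asIdeal.add_mem ht ht', by rw [h1, hc, hd, map_add]⟩
  have hPI : ∀ c ∈ I, P c := by
    intro c hc
    obtain ⟨s, hs⟩ := h2 c
    refine ⟨s, hmem s ?_, hs⟩
    rw [← hs]
    exact rho_mem h4 hI hc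
  have h0 : P 0 := hPI 0 I.zero_mem
  have hPp : ∀ c ∈ p.asIdeal.map (π.app W).hom, ∀ d, P (d * c) := by
    intro c hc
    induction hc using Submodule.span_induction with
    | mem c hc =>
      obtain ⟨t, ht, rfl⟩ := hc
      intro d
      obtain ⟨s, hs⟩ := h2 d
      refine ⟨t * s, p.asIdeal.mul_mem_right s ht, ?_⟩
      rw [mul_comm d]
      have := h3 t d
      erw [this, hs, map_mul]
    | zero => intro d; rw [mul_zero]; exact h0
    | add c c' _ _ hc hc' => intro d; rw [mul_add]; exact hadd _ _ (hc d) (hc' d)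
    | smul a c _ hc => intro d; rw [smul_eq_mul, ← mul_assoc]; exact hc _
  have hP : ∀ c ∈ I ⊔ p.asIdeal.map (π.app W).hom, P c := by
    intro c hc
    obtain ⟨a, ha, b, hb, rfl⟩ := Submodule.mem_sup.1 hc
    have := hPp b hb 1
    rw [one_mul] at this
    exact hadd _ _ (hPI a ha) this
  have hdisj : Disjoint ((I ⊔ p.asIdeal.map (π.app W).hom : Ideal _) : Set Γ(R, π ⁻¹ᵁ W))
      ((p.asIdeal.primeCompl.map (π.app W).hom : Submonoid _) : Set Γ(R, π ⁻¹ᵁ W)) := by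
    rw [Set.disjoint_left]
    rintro c hc ⟨s, hs, rfl⟩
    obtain ⟨t, ht, hst⟩ := hP _ hc
    have h5 : ρ ((π.app W).hom s) = (π.app W).hom s := rho_app hγ h4 s
    have h6 : s = t := hinj (h5.symm.trans hst)
    exact hs (h6 ▸ ht)
  obtain ⟨q, hq, hqI, hqd⟩ := Ideal.exists_le_prime_disjoint _ _ hdisj
  have hcomap : PrimeSpectrum.comap (π.app W).hom ⟨q, hq⟩ = p := by
    apply PrimeSpectrum.ext
    apply le_antisymm
    · intro s hs
      by_contra hsp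
      exact Set.disjoint_left.1 hqd (show (π.app W).hom s ∈ (q : Set _) from hs) ⟨s, hsp, rfl⟩
    · intro s hs
      exact hqI (le_sup_right (a := I) (Ideal.mem_map_of_mem _ hs))
  refine ⟨hW.aff'.fromSpec ⟨q, hq⟩, ?_, ?_, ?_⟩
  · have : hW.aff'.fromSpec ⟨q, hq⟩ ∈ hW.aff'.fromSpec.opensRange := ⟨_, rfl⟩
    rwa [hW.aff'.opensRange_fromSpec] at this
  · have h7 := IsAffineOpen.SpecMap_appLE_fromSpec π (V := π ⁻¹ᵁ W) (U := W) hW.aff hW.aff' le_rfl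
    rw [← Scheme.Hom.app_eq_appLE] at h7
    have h8 := congr($h7 ⟨q, hq⟩)
    rw [Scheme.Hom.comp_apply, Scheme.Hom.comp_apply] at h8
    rw [← h8]
    change hW.aff.fromSpec (PrimeSpectrum.comap (π.app W).hom ⟨q, hq⟩) = x
    rw [hcomap]
    exact hW.aff.fromSpec_primeIdealOf ⟨x, hx⟩
  · intro c hc hmem
    rw [mem_basicOpen_fromSpec_iff] at hmem
    exact hmem (hqI (le_sup_left (b := p.asIdeal.map (π.app W).hom) hc))

/-- **(C1)** surjectivity. -/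
theorem surjective (hγ : ∀ γ ∈ 𝒢, γ ≫ π = π) (hM : ∀ x : M, ∃ W : M.Opens, x ∈ W ∧ Good π 𝒢 W) : Surjective π := by
  constructor
  intro x
  obtain ⟨W, hx, hW⟩ := hM x
  rcases key hγ hW ⊥ (by
    intro γ hγ e c hc
    rw [Ideal.mem_bot] at hc ⊢
    rw [hc, map_zero]) hx with ⟨s, hs, hs0⟩ | ⟨y, _, hy, _⟩
  · exfalso
    rw [Ideal.mem_bot] at hs0
    have : s = 0 := π.app_injective W (hs0.trans (map_zero _).symm)
    rw [this, Scheme.basicOpen_zero] at hs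
    exact hs
  · exact ⟨y, hy⟩

/-- the ideal of functions over `π⁻¹ W` vanishing on `Z` -/
def van (Z : Set R) (W : M.Opens) : Ideal Γ(R, π ⁻¹ᵁ W) where
  carrier := {c | ∀ z ∈ Z, z ∉ R.basicOpen c}
  zero_mem' := by
    intro z _ hz
    rw [Scheme.basicOpen_zero] at hz
    exact hz
  add_mem' := by
    intro c d hc hd z hz hzz
    rcases (R.basicOpen_add_le c d) hzz with h | h
    · exact hc z hz h
    · exact hd z hz h
  smul_mem' := by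
    intro a c hc z hz hzz
    rw [smul_eq_mul, Scheme.basicOpen_mul] at hzz
    exact hc z hz hzz.2

theorem van_stable (hγ : ∀ γ ∈ 𝒢, γ ≫ π = π) {Z : Set R} (hZ : ∀ γ ∈ 𝒢, γ '' Z ⊆ Z) (W : M.Opens) :
    Stable π 𝒢 W (van Z W) := by
  intro γ hγ' e c hc z hz hzz
  rw [Scheme.Hom.appLE, CommRingCat.comp_apply, Scheme.basicOpen_res, ← Scheme.preimage_basicOpen] at hzz
  exact hc (γ z) (hZ γ hγ' ⟨z, hz, rfl⟩) hzz.2

theorem mem_of_van {Z : Set R} (hZc : IsClosed Z) {W : M.Opens} (hW : IsAffineOpen (π ⁻¹ᵁ W)) {y : R}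
    (hy : y ∈ π ⁻¹ᵁ W) (h : ∀ c ∈ (van Z W : Ideal Γ(R, π ⁻¹ᵁ W)), y ∉ R.basicOpen c) : y ∈ Z := by
  by_contra hyZ
  obtain ⟨c, hc, hyc⟩ := hW.exists_basicOpen_le (V := ⟨Zᶜ, hZc.isOpen_compl⟩) ⟨y, hyZ⟩ hy
  exact h c (fun z hz hzz => hc hzz hz) hyc

/-- Either a neighbourhood `D(s)` of `x` misses the image of the closed stable set `Z`, or `x` is in the image. -/
theorem key_closed (hγ : ∀ γ ∈ 𝒢, γ ≫ π = π) {W : M.Opens} (hW : Good π 𝒢 W) {Z : Set R} (hZc : IsClosed Z)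
    (hZ : ∀ γ ∈ 𝒢, γ '' Z ⊆ Z) {x : M} (hx : x ∈ W) :
    (∃ s : Γ(M, W), x ∈ M.basicOpen s ∧ (π.app W).hom s ∈ (van Z W : Ideal Γ(R, π ⁻¹ᵁ W))) ∨ x ∈ π '' Z := by
  rcases key hγ hW (van Z W) (van_stable hγ hZ W) hx with h | ⟨y, hy, hyx, h⟩
  · exact Or.inl h
  · exact Or.inr ⟨y, mem_of_van hZc hW.aff' hy h, hyx⟩

theorem not_mem_of_van {Z : Set R} {W : M.Opens} {s : Γ(M, W)}
    (h : (π.app W).hom s ∈ (van Z W : Ideal Γ(R, π ⁻¹ᵁ W))) {x : M} (hx : x ∈ M.basicOpen s) : x ∉ π '' Z := by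
  rintro ⟨z, hz, rfl⟩
  apply h z hz
  change z ∈ R.basicOpen (π.app W s)
  rw [← Scheme.preimage_basicOpen]
  exact hx

/-- **(C2)** images of closed stable sets are closed. -/
theorem isClosed_image (hγ : ∀ γ ∈ 𝒢, γ ≫ π = π) (hM : ∀ x : M, ∃ W : M.Opens, x ∈ W ∧ Good π 𝒢 W)
    {Z : Set R} (hZc : IsClosed Z) (hZ : ∀ γ ∈ 𝒢, γ '' Z ⊆ Z) : IsClosed (π '' Z) := by
  rw [← isOpen_compl_iff, isOpen_iff_mem_nhds]
  intro x hx
  obtain ⟨W, hxW, hW⟩ := hM x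
  rcases key_closed hγ hW hZc hZ hxW with ⟨s, hs, hsI⟩ | h
  · exact Filter.mem_of_superset ((M.basicOpen s).isOpen.mem_nhds hs) (fun x' hx' => not_mem_of_van hsI hx')
  · exact absurd h hx

/-- **(F)** separation of families of closed stable sets with empty intersection. -/
theorem exists_of_iInter (hγ : ∀ γ ∈ 𝒢, γ ≫ π = π) {W : M.Opens} (hW : Good π 𝒢 W) {ι : Sort*} (Z : ι → Set R)
    (hZc : ∀ l, IsClosed (Z l)) (hZ : ∀ l, ∀ γ ∈ 𝒢, γ '' (Z l) ⊆ Z l) (hemp : ⋂ l, Z l = ∅) {x : M} (hx : x ∈ W) :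
    ∃ (l : ι) (s : Γ(M, W)), x ∈ M.basicOpen s ∧ (π.app W).hom s ∈ (van (Z l) W : Ideal Γ(R, π ⁻¹ᵁ W)) := by
  obtain ⟨ρ, h1, h2, h3, h4⟩ := hW.ex
  have hst : Stable π 𝒢 W (⨆ l, van (Z l) W) := by
    intro γ hγ' e c hc
    induction hc using Submodule.iSup_induction' with
    | mem l c hc => exact Ideal.mem_iSup_of_mem l (van_stable hγ (hZ l) W γ hγ' e c hc)
    | zero => rw [map_zero]; exact Submodule.zero_mem _
    | add c d _ _ hc hd => rw [map_add]; exact Submodule.add_mem _ hc hd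
  rcases key hγ hW (⨆ l, van (Z l) W) hst hx with ⟨s, hs, hsI⟩ | ⟨y, hy, hyx, h⟩
  · by_contra hcon
    push Not at hcon
    set p := hW.aff.primeIdealOf ⟨x, hx⟩ with hp
    have hP : ∀ c ∈ (⨆ l, van (Z l) W : Ideal Γ(R, π ⁻¹ᵁ W)), ∃ t ∈ p.asIdeal, ρ c = (π.app W).hom t := by
      intro c hc
      induction hc using Submodule.iSup_induction' with
      | mem l c hc =>
        obtain ⟨t, ht⟩ := h2 c
        refine ⟨t, ?_, ht⟩
        by_contra htp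
        refine hcon l t ((mem_basicOpen_iff hW.aff hx t).2 htp) ?_
        rw [← ht]
        exact rho_mem h4 (van_stable hγ (hZ l) W) hc
      | zero =>
        refine ⟨0, p.asIdeal.zero_mem, ?_⟩
        have := h1 0 0
        rw [add_zero] at this
        rw [map_zero]
        exact (add_eq_left.1 this.symm)
      | add c d _ _ hc hd =>
        obtain ⟨t, ht, hc⟩ := hc
        obtain ⟨t', ht', hd⟩ := hd
        exact ⟨t + t', p.asIdeal.add_mem ht ht', by rw [h1, hc, hd, map_add]⟩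
    obtain ⟨t, ht, hst⟩ := hP _ hsI
    rw [rho_app hγ h4 s] at hst
    have : s = t := π.app_injective W hst
    exact (mem_basicOpen_iff hW.aff hx s).1 hs (this ▸ ht)
  · exfalso
    have : y ∈ ⋂ l, Z l := Set.mem_iInter.2 fun l =>
      mem_of_van (hZc l) hW.aff' hy (fun c hc => h c (Ideal.mem_iSup_of_mem l hc))
    rw [hemp] at this
    exact this

/-- **(C3)** disjoint closed stable sets have disjoint images. -/
theorem disjoint_image (hγ : ∀ γ ∈ 𝒢, γ ≫ π = π) (hM : ∀ x : M, ∃ W : M.Opens, x ∈ W ∧ Good π 𝒢 W)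
    {Z Z' : Set R} (hZc : IsClosed Z) (hZ'c : IsClosed Z') (hd : Disjoint Z Z') (hZ : ∀ γ ∈ 𝒢, γ '' Z ⊆ Z)
    (hZ' : ∀ γ ∈ 𝒢, γ '' Z' ⊆ Z') : Disjoint (π '' Z) (π '' Z') := by
  rw [Set.disjoint_left]
  intro x hx hx'
  obtain ⟨W, hxW, hW⟩ := hM x
  obtain ⟨l, s, hs, hsI⟩ := exists_of_iInter hγ hW (fun b : Bool => if b then Z else Z')
    (by intro b; cases b; exacts [hZ'c, hZc]) (by intro b; cases b; exacts [hZ', hZ])
    (by
      rw [Set.eq_empty_iff_forall_notMem]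
      intro y hy
      rw [Set.mem_iInter] at hy
      exact Set.disjoint_left.1 hd (hy true) (hy false)) hxW
  cases l
  · exact not_mem_of_van hsI hs hx'
  · exact not_mem_of_van hsI hs hx

end K739.GoodQ
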