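import Groth.Agent.Coherent.K739.GoodQ
import Mathlib.AlgebraicGeometry.Morphisms.Flat

/-!
# Good quotients for a set of endomorphisms: universal property

`K739.GoodQ.existsUnique_desc`: a good quotient `π : R ⟶ M` for a set `𝒢` of endomorphisms is a categorical quotient in
the category of all schemes.
-/

set_option autoImplicit false
set_option linter.unusedVariables false
set_option linter.unusedSectionVars false
set_option backward.isDefEq.respectTransparency false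
set_option backward.isDefEq.respectTransparency.types false

universe u
open CategoryTheory CategoryTheory.Limits AlgebraicGeometry TopologicalSpace

namespace K739.GoodQ

/-- A surjective quasi-compact scheme-theoretically dominant morphism is an epimorphism. -/
theorem epi_of_dominant_surjective {X Y : Scheme.{u}} (f : X ⟶ Y) [Surjective f] [QuasiCompact f]
    [IsSchemeTheoreticallyDominant f] : Epi f := by
  constructor
  intro Z u v h
  have hb : ∀ y : Y, u y = v y := by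
    intro y
    obtain ⟨x, rfl⟩ := f.surjective y
    rw [← Scheme.Hom.comp_apply, ← Scheme.Hom.comp_apply, h]
  have hbase : u.base = v.base := by
    ext y
    exact hb y
  refine Scheme.Hom.ext hbase ?_
  intro W
  have hinj : Mono (f.app (v ⁻¹ᵁ W)) := ConcreteCategory.mono_of_injective _ (f.app_injective _)
  rw [← cancel_mono (f.app (v ⁻¹ᵁ W))]
  have h1 := Scheme.Hom.congr_app h W
  simp only [Scheme.Hom.comp_app] at h1
  have key : ∀ (U V : X.Opens) (a : Γ(Z, W) ⟶ Γ(X, U)) (i : V ⟶ U) (j : U ⟶ V),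
      (a ≫ X.presheaf.map i.op) ≫ X.presheaf.map j.op = a := by
    intro U V a i j
    rw [Category.assoc, ← Functor.map_comp, ← op_comp]
    have : j ≫ i = 𝟙 _ := Subsingleton.elim _ _
    rw [this]
    simp
  simp only [Category.assoc, Scheme.Hom.naturality]
  rw [← Category.assoc, h1]
  exact key _ _ _ _ _

variable {R M : Scheme.{u}} {π : R ⟶ M} {𝒢 : Set (R ⟶ R)}

/-- invariants over `D(s)` come from the base -/
theorem exists_of_inv (hγ : ∀ γ ∈ 𝒢, γ ≫ π = π) {W : M.Opens} (hW : Good π 𝒢 W) (s : Γ(M, W)) {D : M.Opens}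
    (hD : D = M.basicOpen s) (t : Γ(R, π ⁻¹ᵁ D))
    (ht : ∀ γ ∈ 𝒢, ∀ (e : π ⁻¹ᵁ D ≤ γ ⁻¹ᵁ π ⁻¹ᵁ D), (γ.appLE _ _ e).hom t = t) :
    ∃ m : Γ(M, D), (π.app D).hom m = t := by
  obtain ⟨ρ, h1, h2, h3, h4⟩ := hW.ex
  have hDW : D ≤ W := hD ▸ M.basicOpen_le s
  have hD'W : π ⁻¹ᵁ D ≤ π ⁻¹ᵁ W := fun x hx => hDW hx
  set s' : Γ(R, π ⁻¹ᵁ W) := (π.app W).hom s with hs'
  have hDs : π ⁻¹ᵁ D = R.basicOpen s' := by rw [hD]; exact Scheme.preimage_basicOpen π s
  let res : Γ(R, π ⁻¹ᵁ W) ⟶ Γ(R, π ⁻¹ᵁ D) := R.presheaf.map (homOfLE hD'W).op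
  let resM : Γ(M, W) ⟶ Γ(M, D) := M.presheaf.map (homOfLE hDW).op
  have hnat : ∀ b : Γ(M, W), res.hom ((π.app W).hom b) = (π.app D).hom (resM.hom b) := by
    intro b
    have := π.naturality (homOfLE hDW).op
    exact congr($this b).symm
  have hloc := hW.aff'.isLocalization_of_eq_basicOpen s' (homOfLE hD'W) hDs
  let _ := res.hom.toAlgebra
  obtain ⟨⟨c, ⟨_, k, rfl⟩⟩, hc⟩ := IsLocalization.surj (Submonoid.powers s') t
  have hc' : t * (res.hom s') ^ k = res.hom c := by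
    have : t * res.hom (s' ^ k) = res.hom c := hc
    rwa [map_pow] at this
  -- restriction and pullback commute
  have hcomm : ∀ γ ∈ 𝒢, ∀ (e : π ⁻¹ᵁ W ≤ γ ⁻¹ᵁ π ⁻¹ᵁ W) (e' : π ⁻¹ᵁ D ≤ γ ⁻¹ᵁ π ⁻¹ᵁ D) (d : Γ(R, π ⁻¹ᵁ W)),
      res.hom ((γ.appLE _ _ e).hom d) = (γ.appLE _ _ e').hom (res.hom d) := by
    intro γ hγ' e e' d
    have : γ.appLE _ _ e ≫ res = res ≫ γ.appLE _ _ e' := by
      rw [Scheme.Hom.appLE_map, Scheme.Hom.map_appLE]
    exact congr($this d)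
  let J : Ideal Γ(R, π ⁻¹ᵁ W) := RingHom.ker res.hom
  have hJ : Stable π 𝒢 W J := by
    intro γ hγ' e d hd
    change res.hom _ = 0
    rw [hcomm γ hγ' e (le_inv (hγ γ hγ') D), show res.hom d = 0 from hd, map_zero]
  have hcJ : ∀ γ ∈ 𝒢, ∀ (e : π ⁻¹ᵁ W ≤ γ ⁻¹ᵁ π ⁻¹ᵁ W), (γ.appLE _ _ e).hom c - c ∈ J := by
    intro γ hγ' e
    change res.hom _ = 0
    rw [map_sub, hcomm γ hγ' e (le_inv (hγ γ hγ') D), ← hc', map_mul, map_pow, ht γ hγ', hs', hnat,
      appLE_inv (hγ γ hγ'), sub_self]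
  have hρ : res.hom (ρ c) = res.hom c := by
    have : res.hom (ρ c - c) = 0 := h4 J hJ c hcJ
    rwa [map_sub, sub_eq_zero] at this
  obtain ⟨b, hb⟩ := h2 c
  have hu : IsUnit (resM.hom s) := by
    subst hD
    exact RingedSpace.isUnit_res_basicOpen _ s
  obtain ⟨u, hu⟩ := hu
  refine ⟨resM.hom b * (↑u⁻¹) ^ k, ?_⟩
  have h5 : (π.app D).hom (resM.hom b) = t * ((π.app D).hom (u : Γ(M, D))) ^ k := by
    rw [← hnat, ← hb, hρ, ← hc', hs', hnat, hu]
  rw [map_mul, h5, map_pow, mul_assoc, ← mul_pow, ← map_mul, Units.mul_inv, map_one, one_pow, mul_one]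

variable [QuasiCompact π] [IsSchemeTheoreticallyDominant π]

/-- local factorisation -/
theorem exists_local (hγ : ∀ γ ∈ 𝒢, γ ≫ π = π) {W : M.Opens} (hW : Good π 𝒢 W) {N : Scheme.{u}} (ψ : R ⟶ N)
    (hψ : ∀ γ ∈ 𝒢, γ ≫ ψ = ψ) {V : N.Opens} (hV : IsAffineOpen V) (s : Γ(M, W))
    (hs : π ⁻¹ᵁ M.basicOpen s ≤ ψ ⁻¹ᵁ V) :
    ∃ χ : (M.basicOpen s).toScheme ⟶ N, ∀ (T : Scheme.{u}) (t : T ⟶ (M.basicOpen s).toScheme) (r : T ⟶ R),
      r ≫ π = t ≫ (M.basicOpen s).ι → t ≫ χ = r ≫ ψ := by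
  set D := M.basicOpen s with hD
  have hDa : IsAffineOpen D := hW.aff.basicOpen s
  have hD'a : IsAffineOpen (π ⁻¹ᵁ D) := by
    rw [hD, Scheme.preimage_basicOpen]
    exact hW.aff'.basicOpen _
  have hg : Function.Injective (π.app D).hom := π.app_injective D
  have hf : ∀ n : Γ(N, V), ∃ m : Γ(M, D), (π.app D).hom m = (ψ.appLE V (π ⁻¹ᵁ D) hs).hom n := by
    intro n
    refine exists_of_inv hγ hW s hD _ ?_
    intro γ hγ' e
    have : ψ.appLE V (π ⁻¹ᵁ D) hs ≫ γ.appLE _ _ e = ψ.appLE V (π ⁻¹ᵁ D) hs := by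
      rw [Scheme.Hom.appLE_comp_appLE]
      simp only [hψ γ hγ']
    exact congr($this n)
  let β : Γ(N, V) →+* Γ(M, D) :=
    { toFun := fun n => (hf n).choose
      map_one' := hg (by rw [(hf 1).choose_spec, map_one, map_one])
      map_mul' := fun x y => hg (by
        rw [(hf (x * y)).choose_spec, map_mul, map_mul, (hf x).choose_spec, (hf y).choose_spec])
      map_zero' := hg (by rw [(hf 0).choose_spec, map_zero, map_zero])
      map_add' := fun x y => hg (by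
        rw [(hf (x + y)).choose_spec, map_add, map_add, (hf x).choose_spec, (hf y).choose_spec]) }
  have hβ : CommRingCat.ofHom β ≫ π.app D = ψ.appLE V (π ⁻¹ᵁ D) hs := by
    ext n
    exact (hf n).choose_spec
  refine ⟨hDa.isoSpec.hom ≫ Spec.map (CommRingCat.ofHom β) ≫ hV.fromSpec, ?_⟩
  intro T t r h
  have hrange : Set.range r ⊆ Set.range hD'a.fromSpec := by
    rw [hD'a.range_fromSpec]
    rintro _ ⟨y, rfl⟩
    change π (r y) ∈ D
    rw [← Scheme.Hom.comp_apply, h, Scheme.Hom.comp_apply]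
    exact (t y).2
  have hr' : IsOpenImmersion.lift hD'a.fromSpec r hrange ≫ hD'a.fromSpec = r := IsOpenImmersion.lift_fac _ _ _
  set r' := IsOpenImmersion.lift hD'a.fromSpec r hrange with hr'def
  have h7 := IsAffineOpen.SpecMap_appLE_fromSpec π (V := π ⁻¹ᵁ D) (U := D) hDa hD'a le_rfl
  rw [← Scheme.Hom.app_eq_appLE] at h7
  have h8 : t ≫ hDa.isoSpec.hom = r' ≫ Spec.map (π.app D) := by
    rw [← cancel_mono hDa.fromSpec, Category.assoc, Category.assoc, h7, reassoc_of% hr', h]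
    congr 1
    exact hDa.isoSpec_hom_fromSpec
  have h9 := IsAffineOpen.SpecMap_appLE_fromSpec ψ (V := π ⁻¹ᵁ D) (U := V) hV hD'a hs
  rw [reassoc_of% h8, ← hr', Category.assoc, ← h9, ← hβ, Spec.map_comp, Category.assoc]

/-- **(C4)** a good quotient is a categorical quotient in the category of schemes. -/
theorem existsUnique_desc (hγ : ∀ γ ∈ 𝒢, γ ≫ π = π) (hM : ∀ x : M, ∃ W : M.Opens, x ∈ W ∧ Good π 𝒢 W)
    {N : Scheme.{u}} (ψ : R ⟶ N) (hψ : ∀ γ ∈ 𝒢, γ ≫ ψ = ψ) : ∃! χ : M ⟶ N, π ≫ χ = ψ := by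
  have hsurj : Surjective π := surjective hγ hM
  have hepi : Epi π := epi_of_dominant_surjective π
  -- local data
  have hloc : ∀ x : M, ∃ (D : M.Opens) (χ : D.toScheme ⟶ N), x ∈ D ∧
      ∀ (T : Scheme.{u}) (t : T ⟶ D.toScheme) (r : T ⟶ R), r ≫ π = t ≫ D.ι → t ≫ χ = r ≫ ψ := by
    intro x
    obtain ⟨W, hxW, hW⟩ := hM x
    obtain ⟨V, s, hs, hsI⟩ := exists_of_iInter hγ hW (fun V : N.affineOpens => ((ψ ⁻¹ᵁ V.1 : R.Opens) : Set R)ᶜ)
      (fun V => (ψ ⁻¹ᵁ V.1).isOpen.isClosed_compl)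
      (by
        rintro V γ hγ' _ ⟨z, hz, rfl⟩ hzz
        apply hz
        change ψ (γ z) ∈ V.1 at hzz
        rw [← Scheme.Hom.comp_apply, hψ γ hγ'] at hzz
        exact hzz)
      (by
        rw [Set.eq_empty_iff_forall_notMem]
        intro y hy
        rw [Set.mem_iInter] at hy
        obtain ⟨V, hV, hyV⟩ : ∃ V : N.Opens, IsAffineOpen V ∧ ψ y ∈ V := by
          obtain ⟨_, ⟨V, hV, rfl⟩, hyV, _⟩ := N.isBasis_affineOpens.exists_subset_of_mem_open
            (show ψ y ∈ (⊤ : N.Opens) from trivial) (⊤ : N.Opens).isOpen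
          exact ⟨V, hV, hyV⟩
        exact hy ⟨V, hV⟩ hyV) hxW
    have hle : π ⁻¹ᵁ M.basicOpen s ≤ ψ ⁻¹ᵁ V.1 := by
      intro y hy
      by_contra hyV
      exact not_mem_of_van hsI (show π y ∈ M.basicOpen s from hy) ⟨y, hyV, rfl⟩
    obtain ⟨χ, hχ⟩ := exists_local hγ hW ψ hψ V.2 s hle
    exact ⟨M.basicOpen s, χ, hs, hχ⟩
  choose D χ hxD hχ using hloc
  have hD : IsOpenCover D := by
    rw [IsOpenCover, eq_top_iff]
    intro x _
    exact Opens.mem_iSup.2 ⟨x, hxD x⟩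
  let 𝒰 := M.openCoverOfIsOpenCover D hD
  have hcompat : ∀ x y, pullback.fst (𝒰.f x) (𝒰.f y) ≫ χ x = pullback.snd (𝒰.f x) (𝒰.f y) ≫ χ y := by
    intro x y
    let q : pullback (𝒰.f x) (𝒰.f y) ⟶ M := pullback.fst (𝒰.f x) (𝒰.f y) ≫ 𝒰.f x
    have : Epi (pullback.snd π q) := epi_of_dominant_surjective _
    rw [← cancel_epi (pullback.snd π q)]
    have h1 := hχ x _ (pullback.snd π q ≫ pullback.fst (𝒰.f x) (𝒰.f y)) (pullback.fst π q) (by
      rw [pullback.condition, Category.assoc]; rfl)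
    have h2 := hχ y _ (pullback.snd π q ≫ pullback.snd (𝒰.f x) (𝒰.f y)) (pullback.fst π q) (by
      rw [pullback.condition, Category.assoc]
      change pullback.snd π q ≫ pullback.fst (𝒰.f x) (𝒰.f y) ≫ 𝒰.f x = _
      rw [pullback.condition]
      rfl)
    rw [Category.assoc] at h1 h2
    rw [h1, h2]
  let χ' : M ⟶ N := 𝒰.glueMorphisms χ hcompat
  have hχ' : ∀ x, (D x).ι ≫ χ' = χ x := fun x => 𝒰.ι_glueMorphisms χ hcompat x
  refine ⟨χ', ?_, fun χ'' h => ?_⟩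
  · have hR : IsOpenCover (fun x => π ⁻¹ᵁ D x) := by
      rw [IsOpenCover, eq_top_iff]
      intro y _
      exact Opens.mem_iSup.2 ⟨π y, hxD (π y)⟩
    apply (R.openCoverOfIsOpenCover _ hR).hom_ext
    intro x
    change (π ⁻¹ᵁ D x).ι ≫ π ≫ χ' = (π ⁻¹ᵁ D x).ι ≫ ψ
    have h3 : (π ⁻¹ᵁ D x).ι ≫ π = (π ∣_ D x) ≫ (D x).ι := (morphismRestrict_ι π (D x)).symm
    rw [reassoc_of% h3, hχ']
    exact hχ x _ _ _ h3
  · rw [← cancel_epi π, h]
    have hR : IsOpenCover (fun x => π ⁻¹ᵁ D x) := by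
      rw [IsOpenCover, eq_top_iff]
      intro y _
      exact Opens.mem_iSup.2 ⟨π y, hxD (π y)⟩
    symm
    apply (R.openCoverOfIsOpenCover _ hR).hom_ext
    intro x
    change (π ⁻¹ᵁ D x).ι ≫ π ≫ χ' = (π ⁻¹ᵁ D x).ι ≫ ψ
    have h3 : (π ⁻¹ᵁ D x).ι ≫ π = (π ∣_ D x) ≫ (D x).ι := (morphismRestrict_ι π (D x)).symm
    rw [reassoc_of% h3, hχ']
    exact hχ x _ _ _ h3

end K739.GoodQ
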