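import Mathlib.RingTheory.IsTensorProduct
import Mathlib.Algebra.Category.Ring.Constructions

/-!
# Reynolds operators of ring homomorphisms

`Rd φ κ 𝒮 r`: for `φ : B →+* C`, a set `𝒮` of endomorphisms of `C` and constants `κ : K →+* B`, the map `r : C → B` is
additive, `B`-linear, `r 1 = 1`, `𝒮`-invariant and, for every finite family `c : ι → C`, the family `φ (r c) - c` is in the
additive group generated by the families `κ z (g c - c)`, `g ∈ 𝒮`, `z ∈ K`.
Stable under base change (`Rd.baseChange`), unique (`Rd.compat`), and preserves the stable subspaces with coefficients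
(`Rd.stable`).
-/

set_option autoImplicit false
set_option linter.unusedVariables false
set_option linter.unusedSectionVars false
set_option backward.isDefEq.respectTransparency false
set_option backward.isDefEq.respectTransparency.types false

universe v u

open TensorProduct

namespace K739.RdAlg

variable {K : Type v} [CommRing K] {B C B' C' : Type u} [CommRing B] [CommRing C] [CommRing B'] [CommRing C']

/-- differences of a family -/
def Dif (φ : B →+* C) (κ : K →+* B) (𝒮 : Set (C →+* C)) {ι : Type u} (c : ι → C) : Set (ι → C) :=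
  {x | ∃ g ∈ 𝒮, ∃ z : K, x = fun t => φ (κ z) * (g (c t) - c t)}

/-- Reynolds operator -/
structure Rd (φ : B →+* C) (κ : K →+* B) (𝒮 : Set (C →+* C)) (r : C → B) : Prop where
  add : ∀ c d, r (c + d) = r c + r d
  one : r 1 = 1
  lin : ∀ s c, r (φ s * c) = s * r c
  inv : ∀ g ∈ 𝒮, ∀ c, r (g c) = r c
  tup : ∀ (ι : Type u) [Finite ι] (c : ι → C), (fun t => φ (r (c t)) - c t) ∈ AddSubgroup.closure (Dif φ κ 𝒮 c)

variable {φ : B →+* C} {κ : K →+* B} {𝒮 : Set (C →+* C)} {r : C → B}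

section

variable (H : Rd φ κ 𝒮 r)

include H

/-- as an additive map -/
theorem Rd.exists_hom : ∃ R : C →+ B, ∀ c, R c = r c :=
  ⟨AddMonoidHom.mk' r H.add, fun _ => rfl⟩

theorem Rd.app (s : B) : r (φ s) = s := by
  have := H.lin s 1
  rwa [mul_one, H.one, mul_one] at this

theorem Rd.injective : Function.Injective φ := fun x y h => by
  rw [← H.app x, h, H.app]

theorem Rd.zero : r 0 = 0 := by
  have := H.app 0
  rwa [map_zero] at this

theorem Rd.map_sub (c d : C) : r (c - d) = r c - r d := by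
  obtain ⟨R, hR⟩ := H.exists_hom
  rw [← hR, ← hR, ← hR, _root_.map_sub]

theorem Rd.map_sum {τ : Type*} (s : Finset τ) (c : τ → C) : r (∑ t ∈ s, c t) = ∑ t ∈ s, r (c t) := by
  obtain ⟨R, hR⟩ := H.exists_hom
  rw [← hR, _root_.map_sum]
  exact Finset.sum_congr rfl fun t _ => hR _

/-- one element -/
theorem Rd.single (c : C) : φ (r c) - c ∈ AddSubgroup.closure {x | ∃ g ∈ 𝒮, ∃ z : K, x = φ (κ z) * (g c - c)} := by
  have h := H.tup PUnit (fun _ => c)
  have h2 := AddSubgroup.mem_map_of_mem (Pi.evalAddMonoidHom (fun _ : PUnit.{u+1} => C) PUnit.unit) h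
  rw [AddMonoidHom.map_closure] at h2
  refine AddSubgroup.closure_mono ?_ h2
  rintro _ ⟨_, ⟨g, hg, z, rfl⟩, rfl⟩
  exact ⟨g, hg, z, rfl⟩

/-- invariants come from the base -/
theorem Rd.of_inv {c : C} (hc : ∀ g ∈ 𝒮, g c = c) : φ (r c) = c := by
  have h := H.single c
  have h2 : {x | ∃ g ∈ 𝒮, ∃ z : K, x = φ (κ z) * (g c - c)} ⊆ {(0 : C)} := by
    rintro _ ⟨g, hg, z, rfl⟩
    rw [hc g hg, sub_self, mul_zero]
    exact rfl
  have h3 := AddSubgroup.closure_mono h2 h
  rw [AddSubgroup.closure_singleton_zero, AddSubgroup.mem_bot, sub_eq_zero] at h3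
  exact h3

/-- invariants modulo an ideal -/
theorem Rd.sub_mem (J : Ideal C) {c : C} (hc : ∀ g ∈ 𝒮, g c - c ∈ J) : φ (r c) - c ∈ J := by
  have h := H.single c
  refine (AddSubgroup.closure_le (K := J.toAddSubgroup)).2 ?_ h
  rintro _ ⟨g, hg, z, rfl⟩
  exact J.mul_mem_left _ (hc g hg)

/-- **Compatibility with commutative squares.** -/
theorem Rd.compat {φ' : B' →+* C'} {κ' : K →+* B'} {𝒮' : Set (C' →+* C')} {r' : C' → B'} (H' : Rd φ' κ' 𝒮' r')
    (ψ : B →+* B') (χ : C →+* C') (hsq : ∀ s, χ (φ s) = φ' (ψ s)) (h𝒮 : ∀ g ∈ 𝒮, ∃ g' ∈ 𝒮', ∀ c, g' (χ c) = χ (g c))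
    (c : C) : r' (χ c) = ψ (r c) := by
  have h := H.single c
  obtain ⟨R', hR'⟩ := H'.exists_hom
  have h2 := AddSubgroup.mem_map_of_mem (R'.comp χ.toAddMonoidHom) h
  rw [AddMonoidHom.map_closure] at h2
  have h3 : ((R'.comp χ.toAddMonoidHom) '' {x | ∃ g ∈ 𝒮, ∃ z : K, x = φ (κ z) * (g c - c)}) ⊆ {(0 : B')} := by
    rintro _ ⟨_, ⟨g, hg, z, rfl⟩, rfl⟩
    obtain ⟨g', hg', hgg⟩ := h𝒮 g hg
    change R' (χ (φ (κ z) * (g c - c))) = 0
    rw [map_mul, hsq, hR', H'.lin, _root_.map_sub, H'.map_sub, ← hgg, H'.inv g' hg', sub_self, mul_zero]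
  have h4 := AddSubgroup.closure_mono h3 h2
  rw [AddSubgroup.closure_singleton_zero, AddSubgroup.mem_bot] at h4
  change R' (χ (φ (r c) - c)) = 0 at h4
  rw [hR', _root_.map_sub, H'.map_sub, hsq, H'.app, sub_eq_zero] at h4
  exact h4.symm

theorem Rd.unique {r' : C → B} (H' : Rd φ κ 𝒮 r') : r' = r :=
  funext fun c => H.compat H' (RingHom.id B) (RingHom.id C) (fun _ => rfl) (fun g hg => ⟨g, hg, fun _ => rfl⟩) c

end

/-- finite sums of pure tensors with index type in `Type u` -/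
theorem exists_tens {k : Type v} [CommRing k] {L : Type*} [AddCommGroup L] [Module k L] [Module k C] (x : L ⊗[k] C) :
    ∃ (τ : Type u) (_ : Fintype τ) (l : τ → L) (c : τ → C), x = ∑ t, l t ⊗ₜ[k] c t := by
  induction x using TensorProduct.induction_on with
  | zero => exact ⟨PEmpty, inferInstance, PEmpty.elim, PEmpty.elim, by simp⟩
  | tmul l c => exact ⟨PUnit, inferInstance, fun _ => l, fun _ => c, by simp⟩
  | add x y hx hy =>
    obtain ⟨τ, _, l, c, rfl⟩ := hx
    obtain ⟨τ', _, l', c', rfl⟩ := hy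
    refine ⟨τ ⊕ τ', inferInstance, Sum.elim l l', Sum.elim c c', ?_⟩
    rw [Fintype.sum_sum_type]
    rfl

/-- **Stable subspaces with coefficients.** -/
theorem Rd.stable {k : Type v} [CommRing k] {κ : k →+* B} (H : Rd φ κ 𝒮 r) [Algebra k C]
    (hk : ∀ z, algebraMap k C z = φ (κ z)) (ρ : C →ₗ[k] C) (hρ : ∀ c, ρ c = φ (r c)) {L : Type*} [AddCommGroup L]
    [Module k L] (J : Submodule k (L ⊗[k] C))
    (hJ : ∀ g ∈ 𝒮, ∃ τ : C →ₗ[k] C, (∀ c, τ c = g c) ∧ J ≤ J.comap (τ.lTensor L)) : J ≤ J.comap (ρ.lTensor L) := by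
  intro x hx
  obtain ⟨τ, _, l, c, rfl⟩ := exists_tens x
  let Φ : (τ → C) →+ (L ⊗[k] C) :=
    { toFun := fun y => ∑ t, l t ⊗ₜ[k] y t
      map_zero' := by simp
      map_add' := fun y y' => by simp only [Pi.add_apply, tmul_add, Finset.sum_add_distrib] }
  have h := H.tup τ c
  have h2 := AddSubgroup.mem_map_of_mem Φ h
  rw [AddMonoidHom.map_closure] at h2
  have h3 : Φ '' (Dif φ κ 𝒮 c) ⊆ J.toAddSubgroup := by
    rintro _ ⟨_, ⟨g, hg, z, rfl⟩, rfl⟩
    obtain ⟨T, hT, hTJ⟩ := hJ g hg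
    have h4 : Φ (fun t => φ (κ z) * (g (c t) - c t)) =
        z • ((T.lTensor L) (∑ t, l t ⊗ₜ[k] c t) - ∑ t, l t ⊗ₜ[k] c t) := by
      change ∑ t, l t ⊗ₜ[k] (φ (κ z) * (g (c t) - c t)) = _
      rw [_root_.map_sum, ← Finset.sum_sub_distrib, Finset.smul_sum]
      refine Finset.sum_congr rfl fun t _ => ?_
      rw [LinearMap.lTensor_tmul, ← tmul_sub, hT, ← hk, ← Algebra.smul_def, tmul_smul]
    rw [h4]
    exact J.smul_mem z (J.sub_mem (hTJ hx) hx)
  have h5 := (AddSubgroup.closure_le _).2 h3 h2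
  have h6 : Φ (fun t => φ (r (c t)) - c t) = (ρ.lTensor L) (∑ t, l t ⊗ₜ[k] c t) - ∑ t, l t ⊗ₜ[k] c t := by
    change ∑ t, l t ⊗ₜ[k] (φ (r (c t)) - c t) = _
    rw [_root_.map_sum, ← Finset.sum_sub_distrib]
    refine Finset.sum_congr rfl fun t _ => ?_
    rw [LinearMap.lTensor_tmul, ← tmul_sub, hρ]
  rw [h6] at h5
  have h7 := J.add_mem h5 hx
  rwa [sub_add_cancel] at h7

section BaseChange

variable [Algebra B C] [Algebra B B'] [Algebra B' C'] [Algebra C C'] [Algebra B C'] [IsScalarTower B C C']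
  [IsScalarTower B B' C'] [hC : Algebra.IsPushout B B' C C']

include hC in
variable (B) in
/-- elements of a pushout -/
theorem exists_sum (c' : C') : ∃ (τ : Type u) (_ : Fintype τ) (b : τ → B') (c : τ → C),
    c' = ∑ t, algebraMap B' C' (b t) * algebraMap C C' (c t) := by
  induction c' using hC.out.inductionOn with
  | zero => exact ⟨PEmpty, inferInstance, PEmpty.elim, PEmpty.elim, by simp⟩
  | tmul c => exact ⟨PUnit, inferInstance, fun _ => 1, fun _ => c, by simp⟩
  | smul s n h =>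
    obtain ⟨τ, _, b, c, rfl⟩ := h
    refine ⟨τ, inferInstance, fun t => s * b t, c, ?_⟩
    rw [Finset.smul_sum]
    refine Finset.sum_congr rfl fun t _ => ?_
    rw [Algebra.smul_def, map_mul, mul_assoc]
  | add x y hx hy =>
    obtain ⟨τ, _, l, c, rfl⟩ := hx
    obtain ⟨τ', _, l', c', rfl⟩ := hy
    refine ⟨τ ⊕ τ', inferInstance, Sum.elim l l', Sum.elim c c', ?_⟩
    rw [Fintype.sum_sum_type]
    rfl

variable {κ : K →+* B} {𝒮 : Set (C →+* C)} {r : C → B}

/-- **Base change of a Reynolds operator.** -/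
theorem Rd.baseChange (H : Rd (algebraMap B C) κ 𝒮 r) {𝒮' : Set (C' →+* C')}
    (h1 : ∀ g ∈ 𝒮, ∃ g' ∈ 𝒮', ∀ c, g' (algebraMap C C' c) = algebraMap C C' (g c))
    (h2 : ∀ g' ∈ 𝒮', (∀ b, g' (algebraMap B' C' b) = algebraMap B' C' b) ∧
      ∃ g ∈ 𝒮, ∀ c, g' (algebraMap C C' c) = algebraMap C C' (g c)) :
    ∃ r' : C' → B', Rd (algebraMap B' C') ((algebraMap B B').comp κ) 𝒮' r' := by
  let g0 : C →ₗ[B] B' :=
    { toFun := fun c => algebraMap B B' (r c)
      map_add' := fun c d => by rw [H.add, map_add]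
      map_smul' := fun b c => by
        rw [Algebra.smul_def, H.lin, map_mul, RingHom.id_apply, Algebra.smul_def] }
  let R' : C' →ₗ[B'] B' := hC.out.lift g0
  have hR : ∀ c : C, R' (algebraMap C C' c) = algebraMap B B' (r c) := fun c => hC.out.lift_eq g0 c
  have hlin : ∀ (s : B') (c : C'), R' (algebraMap B' C' s * c) = s * R' c := by
    intro s c
    rw [← Algebra.smul_def, map_smul, smul_eq_mul]
  have hBC : ∀ b : B, algebraMap C C' (algebraMap B C b) = algebraMap B' C' (algebraMap B B' b) := by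
    intro b
    rw [← IsScalarTower.algebraMap_apply, ← IsScalarTower.algebraMap_apply]
  refine ⟨R', ⟨fun c d => map_add _ _ _, ?_, hlin, ?_, ?_⟩⟩
  · have := hR 1
    rwa [RingHom.map_one, H.one, RingHom.map_one] at this
  · intro g' hg' c'
    obtain ⟨h3, g, hg, h4⟩ := h2 g' hg'
    obtain ⟨τ, _, b, c, rfl⟩ := exists_sum (B' := B') (C := C) B c'
    rw [_root_.map_sum, _root_.map_sum, _root_.map_sum]
    refine Finset.sum_congr rfl fun t _ => ?_
    rw [map_mul, h3, h4, hlin, hlin, hR, hR, H.inv g hg]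
  · intro ι _ c'
    choose τ hτ b c hc using fun t => exists_sum (B' := B') (C := C) B (c' t)
    let call : (Σ s, τ s) → C := fun x => c x.1 x.2
    let Φ : ((Σ s, τ s) → C) →+ (ι → C') :=
      { toFun := fun y s => ∑ t, algebraMap B' C' (b s t) * algebraMap C C' (y ⟨s, t⟩)
        map_zero' := by
          funext s
          simp
        map_add' := fun y y' => by
          funext s
          simp only [Pi.add_apply, map_add, mul_add, Finset.sum_add_distrib] }
    have hΦ : ∀ y s, Φ y s = ∑ t, algebraMap B' C' (b s t) * algebraMap C C' (y ⟨s, t⟩) := fun _ _ => rfl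
    have hcall : ∀ s, Φ call s = c' s := fun s => (hc s).symm
    have h := H.tup (Σ s, τ s) call
    have h5 := AddSubgroup.mem_map_of_mem Φ h
    rw [AddMonoidHom.map_closure] at h5
    have h6 : Φ (fun t => algebraMap B C (r (call t)) - call t) = fun s => algebraMap B' C' (R' (c' s)) - c' s := by
      funext s
      rw [hΦ]
      simp only [_root_.map_sub, mul_sub, Finset.sum_sub_distrib]
      rw [← hΦ, hcall]
      congr 1
      rw [hc s, _root_.map_sum, _root_.map_sum]
      refine Finset.sum_congr rfl fun t _ => ?_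
      rw [hlin, hR, map_mul, hBC]
    rw [h6] at h5
    refine AddSubgroup.closure_mono ?_ h5
    rintro _ ⟨_, ⟨g, hg, z, rfl⟩, rfl⟩
    obtain ⟨g', hg', h7⟩ := h1 g hg
    refine ⟨g', hg', z, ?_⟩
    funext s
    rw [hΦ, hc s, _root_.map_sum, ← Finset.sum_sub_distrib, Finset.mul_sum]
    refine Finset.sum_congr rfl fun t _ => ?_
    rw [map_mul, map_mul, (h2 g' hg').1, h7, _root_.map_sub, hBC, RingHom.comp_apply]
    ring

end BaseChange

end K739.RdAlg
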