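import Groth.Agent.Coherent.K739.GoodQ2
import Groth.Agent.Coherent.K739.RdAlg

/-!
# Universally good quotients for a set of endomorphisms

`GoodS κ π 𝒢 W`: over the affine open `W` of `M`, `π : R ⟶ M` is affine and `Γ(M, W) → Γ(R, π⁻¹ W)` has a Reynolds operator
(`K739.RdAlg.Rd`) for the set `𝒢` of endomorphisms of `R` and the constants `κ : K →+* Γ(M, ⊤)`.
`GoodS.baseChange`: arbitrary base change. `GQ κ π 𝒢`: `M` is covered by such opens.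
-/

set_option autoImplicit false
set_option linter.unusedVariables false
set_option linter.unusedSectionVars false
set_option backward.isDefEq.respectTransparency false
set_option backward.isDefEq.respectTransparency.types false

universe v u
open CategoryTheory CategoryTheory.Limits AlgebraicGeometry TopologicalSpace K739.RdAlg

namespace K739.GoodQ

variable {K : Type v} [CommRing K] {R M R' M' : Scheme.{u}}

/-- constants over `W` -/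
noncomputable def kap (κ : K →+* Γ(M, ⊤)) (W : M.Opens) : K →+* Γ(M, W) :=
  (M.presheaf.map (homOfLE le_top).op).hom.comp κ

/-- The endomorphisms of the sections given by `𝒢`. -/
def Sec (π : R ⟶ M) (𝒢 : Set (R ⟶ R)) (W : M.Opens) : Set (Γ(R, π ⁻¹ᵁ W) →+* Γ(R, π ⁻¹ᵁ W)) :=
  {g | ∃ γ ∈ 𝒢, ∃ e : π ⁻¹ᵁ W ≤ γ ⁻¹ᵁ π ⁻¹ᵁ W, g = (γ.appLE _ _ e).hom}

/-- Reynolds operator over an affine open, strong form. -/
structure GoodS (κ : K →+* Γ(M, ⊤)) (π : R ⟶ M) (𝒢 : Set (R ⟶ R)) (W : M.Opens) : Prop where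
  aff : IsAffineOpen W
  aff' : IsAffineOpen (π ⁻¹ᵁ W)
  ex : ∃ r : Γ(R, π ⁻¹ᵁ W) → Γ(M, W), Rd (π.app W).hom (kap κ W) (Sec π 𝒢 W) r

variable {κ : K →+* Γ(M, ⊤)} {π : R ⟶ M} {𝒢 : Set (R ⟶ R)}

theorem GoodS.good {W : M.Opens} (H : GoodS κ π 𝒢 W) : Good π 𝒢 W where
  aff := H.aff
  aff' := H.aff'
  ex := by
    obtain ⟨r, hr⟩ := H.ex
    refine ⟨fun c => (π.app W).hom (r c), fun c d => by simp only [hr.add, map_add], fun c => ⟨r c, rfl⟩,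
      fun s c => by simp only [hr.lin, map_mul], fun J hJ c hc => hr.sub_mem J ?_⟩
    rintro g ⟨γ, hγ, e, rfl⟩
    exact hc γ hγ e

/-- naturality of the constants -/
theorem appLE_kap (q : M' ⟶ M) (κ : K →+* Γ(M, ⊤)) {W : M.Opens} {W' : M'.Opens} (e : W' ≤ q ⁻¹ᵁ W) (z : K) :
    (q.appLE W W' e).hom (kap κ W z) = kap ((q.appTop).hom.comp κ) W' z := by
  have h : M.presheaf.map (homOfLE le_top).op ≫ q.appLE W W' e =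
      q.appTop ≫ M'.presheaf.map (homOfLE le_top).op := by
    rw [Scheme.Hom.map_appLE, Scheme.Hom.appTop, Scheme.Hom.app_eq_appLE, Scheme.Hom.appLE_map]
  exact congr($h (κ z))

/-- The lifting hypotheses: `𝒢'` consists of lifts of elements of `𝒢`, and all elements of `𝒢` have lifts. -/
structure Lifts (p' : R' ⟶ R) (π' : R' ⟶ M') (𝒢 : Set (R ⟶ R)) (𝒢' : Set (R' ⟶ R')) : Prop where
  ex : ∀ γ ∈ 𝒢, ∃ γ' ∈ 𝒢', γ' ≫ p' = p' ≫ γ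
  inv : ∀ γ' ∈ 𝒢', γ' ≫ π' = π'
  lift : ∀ γ' ∈ 𝒢', ∃ γ ∈ 𝒢, γ' ≫ p' = p' ≫ γ

variable {p' : R' ⟶ R} {π' : R' ⟶ M'} {q : M' ⟶ M} {𝒢' : Set (R' ⟶ R')}

theorem le_of_sq (hsq : p' ≫ π = π' ≫ q) {W : M.Opens} {W' : M'.Opens} (e : W' ≤ q ⁻¹ᵁ W) :
    π' ⁻¹ᵁ W' ≤ p' ⁻¹ᵁ π ⁻¹ᵁ W := by
  rw [← Scheme.Hom.comp_preimage, hsq, Scheme.Hom.comp_preimage]
  exact π'.preimage_mono e

theorem appLE_comm {γ : R ⟶ R} {γ' : R' ⟶ R'} (h : γ' ≫ p' = p' ≫ γ) {V : R.Opens} {V' : R'.Opens}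
    (e : V ≤ γ ⁻¹ᵁ V) (e' : V' ≤ γ' ⁻¹ᵁ V') (e'' : V' ≤ p' ⁻¹ᵁ V) (c : Γ(R, V)) :
    (γ'.appLE V' V' e').hom ((p'.appLE V V' e'').hom c) = (p'.appLE V V' e'').hom ((γ.appLE V V e).hom c) := by
  have h1 : p'.appLE V V' e'' ≫ γ'.appLE V' V' e' = γ.appLE V V e ≫ p'.appLE V V' e'' := by
    rw [Scheme.Hom.appLE_comp_appLE, Scheme.Hom.appLE_comp_appLE]
    simp only [h]
  exact congr($h1 c)

/-- compatibility of the Reynolds operators with commutative squares -/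
theorem rd_compat (hγ : ∀ γ ∈ 𝒢, γ ≫ π = π) (hsq : p' ≫ π = π' ≫ q) (L : Lifts p' π' 𝒢 𝒢') {κ' : K →+* Γ(M', ⊤)}
    {W : M.Opens} {W' : M'.Opens} (e : W' ≤ q ⁻¹ᵁ W)
    {r : Γ(R, π ⁻¹ᵁ W) → Γ(M, W)} (hr : Rd (π.app W).hom (kap κ W) (Sec π 𝒢 W) r)
    {r' : Γ(R', π' ⁻¹ᵁ W') → Γ(M', W')} (hr' : Rd (π'.app W').hom (kap κ' W') (Sec π' 𝒢' W') r')
    (c : Γ(R, π ⁻¹ᵁ W)) :
    r' ((p'.appLE (π ⁻¹ᵁ W) (π' ⁻¹ᵁ W') (le_of_sq hsq e)).hom c) = (q.appLE W W' e).hom (r c) := by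
  refine hr.compat hr' (q.appLE W W' e).hom (p'.appLE (π ⁻¹ᵁ W) (π' ⁻¹ᵁ W') (le_of_sq hsq e)).hom ?_ ?_ c
  · intro s
    have : π.app W ≫ p'.appLE (π ⁻¹ᵁ W) (π' ⁻¹ᵁ W') (le_of_sq hsq e) = q.appLE W W' e ≫ π'.app W' := by
      rw [Scheme.Hom.app_eq_appLE, Scheme.Hom.app_eq_appLE, Scheme.Hom.appLE_comp_appLE,
        Scheme.Hom.appLE_comp_appLE]
      simp only [hsq]
    exact congr($this s)
  · rintro g ⟨γ, hγ', e1, rfl⟩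
    obtain ⟨γ', h1, h2⟩ := L.ex γ hγ'
    exact ⟨_, ⟨γ', h1, le_inv (L.inv γ' h1) W', rfl⟩, fun c => appLE_comm h2 _ _ _ c⟩

/-- **Base change.** -/
theorem GoodS.baseChange (sq : IsPullback p' π' π q) (hγ : ∀ γ ∈ 𝒢, γ ≫ π = π) (L : Lifts p' π' 𝒢 𝒢')
    {W : M.Opens} (H : GoodS κ π 𝒢 W) {W' : M'.Opens} (hW' : IsAffineOpen W') (e : W' ≤ q ⁻¹ᵁ W) :
    GoodS ((q.appTop).hom.comp κ) π' 𝒢' W' := by
  have hle := le_of_sq sq.w e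
  have hUY : π' ⁻¹ᵁ W' = p' ⁻¹ᵁ (π ⁻¹ᵁ W) ⊓ π' ⁻¹ᵁ W' := le_antisymm (le_inf hle le_rfl) inf_le_right
  have haff : IsAffineOpen (π' ⁻¹ᵁ W') := by
    have : IsAffine _ := H.aff
    have : IsAffine _ := H.aff'
    have : IsAffine _ := hW'
    exact .of_isIso (Scheme.Hom.isPullback_resLE sq e le_rfl hUY).isoPullback.hom
  have hpo : IsPushout (π.appLE W (π ⁻¹ᵁ W) le_rfl) (q.appLE W W' e)
      (p'.appLE (π ⁻¹ᵁ W) (π' ⁻¹ᵁ W') hle) (π'.appLE W' (π' ⁻¹ᵁ W') le_rfl) :=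
    (isIso_pushoutSection_iff sq e le_rfl hUY).1
      (isIso_pushoutSection_of_isAffineOpen sq e le_rfl hUY H.aff hW' H.aff')
  rw [← Scheme.Hom.app_eq_appLE, ← Scheme.Hom.app_eq_appLE] at hpo
  refine ⟨hW', haff, ?_⟩
  obtain ⟨r, hr⟩ := H.ex
  let _ := (π.app W).hom.toAlgebra
  let _ := (q.appLE W W' e).hom.toAlgebra
  let _ := (p'.appLE (π ⁻¹ᵁ W) (π' ⁻¹ᵁ W') hle).hom.toAlgebra
  let _ := (π'.app W').hom.toAlgebra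
  let _ := (π.app W ≫ p'.appLE (π ⁻¹ᵁ W) (π' ⁻¹ᵁ W') hle).hom.toAlgebra
  have t1 : IsScalarTower Γ(M, W) Γ(R, π ⁻¹ᵁ W) Γ(R', π' ⁻¹ᵁ W') := IsScalarTower.of_algebraMap_eq' rfl
  have t2 : IsScalarTower Γ(M, W) Γ(M', W') Γ(R', π' ⁻¹ᵁ W') := IsScalarTower.of_algebraMap_eq' (by
    change (π.app W ≫ p'.appLE (π ⁻¹ᵁ W) (π' ⁻¹ᵁ W') hle).hom = _
    rw [hpo.w]
    rfl)
  have h3 : Algebra.IsPushout Γ(M, W) Γ(M', W') Γ(R, π ⁻¹ᵁ W) Γ(R', π' ⁻¹ᵁ W') :=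
    (CommRingCat.isPushout_iff_isPushout).1 hpo.flip
  obtain ⟨r', hr'⟩ := Rd.baseChange (B := Γ(M, W)) (C := Γ(R, π ⁻¹ᵁ W)) (B' := Γ(M', W'))
    (C' := Γ(R', π' ⁻¹ᵁ W')) (κ := kap κ W) (𝒮 := Sec π 𝒢 W) (r := r) hr (𝒮' := Sec π' 𝒢' W') (by
      rintro g ⟨γ, hγ', e1, rfl⟩
      obtain ⟨γ', h1, h2⟩ := L.ex γ hγ'
      exact ⟨_, ⟨γ', h1, le_inv (L.inv γ' h1) W', rfl⟩, fun c => appLE_comm h2 _ _ _ c⟩) (by
      rintro g' ⟨γ', hγ', e1, rfl⟩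
      obtain ⟨γ, h1, h2⟩ := L.lift γ' hγ'
      exact ⟨fun b => appLE_inv (L.inv γ' hγ') e1 b, _, ⟨γ, h1, le_inv (hγ γ h1) W, rfl⟩,
        fun c => appLE_comm h2 _ _ _ c⟩)
  refine ⟨r', ?_⟩
  have h5 : (algebraMap Γ(M, W) Γ(M', W')).comp (kap κ W) = kap ((q.appTop).hom.comp κ) W' :=
    RingHom.ext fun z => appLE_kap q κ e z
  rw [h5] at hr'
  exact hr'

/-- smaller affine opens -/
theorem GoodS.of_le (hγ : ∀ γ ∈ 𝒢, γ ≫ π = π) {W : M.Opens} (H : GoodS κ π 𝒢 W) {W' : M.Opens} (hW' : IsAffineOpen W')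
    (e : W' ≤ W) : GoodS κ π 𝒢 W' := by
  have h := GoodS.baseChange (p' := 𝟙 R) (π' := π) (q := 𝟙 M) (𝒢' := 𝒢) IsPullback.of_id_fst hγ
    ⟨fun γ hγ' => ⟨γ, hγ', by simp⟩, hγ, fun γ hγ' => ⟨γ, hγ', by simp⟩⟩ H hW' (by simpa using e)
  have h2 : ((𝟙 M : M ⟶ M).appTop).hom.comp κ = κ := by
    rw [Scheme.Hom.id_appTop]
    rfl
  rwa [h2] at h

end K739.GoodQ
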