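import Groth.Agent.Coherent.K739.KrOp2
import Mathlib.AlgebraicGeometry.Morphisms.Flat
import Mathlib.AlgebraicGeometry.Morphisms.ClosedImmersion

/-!
# Kronecker modules: the coordinate rings of the charts

* `aff_closure`: over an affine open `U` of `S` the ring `Γ(𝔸(n; S), pr⁻¹ U)` is generated by `Γ(S, U)` and the coordinates.
* coordinates of points of `AS a b h S`, the action, the functions `fn sS p`.
* `exists_theta`: the homomorphism `Γ(S, U) ⊗ K[Idx] → Γ(T, O)` attached to a point `x : T ⟶ AS a b h S`.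
* `exists_frac`: for a subscheme `j : R ⟶ AS a b h S` which is closed in the semistable locus, all functions on
  `D(F_i) ∩ pr⁻¹ U` are fractions `θ p / F_i ^ n`.
-/

set_option autoImplicit false
set_option linter.unusedVariables false
set_option linter.unusedSectionVars false
set_option backward.isDefEq.respectTransparency false
set_option backward.isDefEq.respectTransparency.types false

universe u

open CategoryTheory CategoryTheory.Limits AlgebraicGeometry TopologicalSpace MvPolynomial K585.KronK TensorProduct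
open K739.KrAlg K739.KrOp

namespace K739.KrAff

/-- restriction of a global function -/
noncomputable abbrev gr {T : Scheme.{u}} (U : T.Opens) : Γ(T, ⊤) →+* Γ(T, U) :=
  (T.presheaf.map (homOfLE le_top).op).hom

theorem appLE_gr {T T' : Scheme.{u}} (f : T' ⟶ T) {U : T.Opens} {V : T'.Opens} (e : V ≤ f ⁻¹ᵁ U) (s : Γ(T, ⊤)) :
    (f.appLE U V e).hom (gr U s) = gr V (f.appTop.hom s) := by
  change (T.presheaf.map _ ≫ f.appLE U V e) s = (f.app ⊤ ≫ T'.presheaf.map _) s
  rw [Scheme.Hom.map_appLE, Scheme.Hom.app_eq_appLE, Scheme.Hom.appLE_map]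

section Closure

variable (n : Type u) (S : Scheme.{u})

/-- generation of the coordinate ring of affine space -/
theorem aff_closure {U : S.Opens} (hU : IsAffineOpen U) (B0 : Subring Γ(𝔸(n; S), (𝔸(n; S) ↘ S) ⁻¹ᵁ U))
    (h1 : ∀ l : Γ(S, U), ((𝔸(n; S) ↘ S).app U).hom l ∈ B0)
    (h2 : ∀ x : n, gr ((𝔸(n; S) ↘ S) ⁻¹ᵁ U) (AffineSpace.coord S x) ∈ B0) : B0 = ⊤ := by
  have H : IsPullback (AffineSpace.toSpecMvPoly n S) (𝔸(n; S) ↘ S) (terminal.from _) (terminal.from S) :=
    (IsPullback.of_hasPullback (terminal.from S)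
      (terminal.from (Spec (CommRingCat.of (MvPolynomial n (ULift.{u} ℤ)))))).flip
  have haff : IsAffine (⊤_ Scheme.{u}) := by
    have := isIso_of_isTerminal specULiftZIsTerminal.{u} terminalIsTerminal (terminal.from _)
    exact .of_isIso (inv (terminal.from (Spec (CommRingCat.of (ULift.{u} ℤ)))))
  have hUY : (𝔸(n; S) ↘ S) ⁻¹ᵁ U =
      AffineSpace.toSpecMvPoly n S ⁻¹ᵁ (⊤ : (Spec (CommRingCat.of (MvPolynomial n (ULift.{u} ℤ)))).Opens) ⊓
        (𝔸(n; S) ↘ S) ⁻¹ᵁ U := le_antisymm (le_inf le_top le_rfl) inf_le_right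
  have hpo := (isIso_pushoutSection_iff H (US := ⊤) (UT := U) (UX := ⊤) le_top le_top hUY).1
    (isIso_pushoutSection_of_isAffineOpen H (US := ⊤) (UT := U) (UX := ⊤) le_top le_top hUY (isAffineOpen_top _) hU
      (isAffineOpen_top _))
  have hcl := CommRingCat.closure_range_union_range_eq_top_of_isPushout hpo
  rw [← top_le_iff, ← hcl, Subring.closure_le]
  rintro y (⟨P, rfl⟩ | ⟨l, rfl⟩)
  · let φ : MvPolynomial n (ULift.{u} ℤ) →+* Γ(𝔸(n; S), (𝔸(n; S) ↘ S) ⁻¹ᵁ U) :=
      ((AffineSpace.toSpecMvPoly n S).appLE ⊤ ((𝔸(n; S) ↘ S) ⁻¹ᵁ U) le_top).hom.comp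
        (Scheme.ΓSpecIso (CommRingCat.of (MvPolynomial n (ULift.{u} ℤ)))).inv.hom
    have hφ : ∀ Q, φ Q ∈ B0 := by
      intro Q
      induction Q using MvPolynomial.induction_on with
      | C z =>
        obtain ⟨z⟩ := z
        have h3 : φ (MvPolynomial.C ⟨z⟩) = (z : Γ(𝔸(n; S), (𝔸(n; S) ↘ S) ⁻¹ᵁ U)) := by
          have h4 : (φ.comp MvPolynomial.C).comp (ULift.ringEquiv (R := ℤ)).symm.toRingHom = Int.castRingHom _ :=
            RingHom.ext_int _ _
          exact congr($h4 z)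
        rw [h3]
        exact intCast_mem B0 z
      | add p q hp hq => rw [map_add]; exact B0.add_mem hp hq
      | mul_X p x hp =>
        rw [map_mul]
        refine B0.mul_mem hp ?_
        have h5 : φ (MvPolynomial.X x) = gr ((𝔸(n; S) ↘ S) ⁻¹ᵁ U) (AffineSpace.coord S x) := by
          change ((AffineSpace.toSpecMvPoly n S).appLE ⊤ _ le_top).hom _ = _
          have h6 : (AffineSpace.toSpecMvPoly n S).appLE ⊤ ((𝔸(n; S) ↘ S) ⁻¹ᵁ U) le_top =
              (AffineSpace.toSpecMvPoly n S).app ⊤ ≫ (𝔸(n; S)).presheaf.map (homOfLE le_top).op := by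
            rw [Scheme.Hom.app_eq_appLE, Scheme.Hom.appLE_map]
          rw [h6]
          rfl
        rw [h5]
        exact h2 x
    have h7 := hφ ((Scheme.ΓSpecIso (CommRingCat.of (MvPolynomial n (ULift.{u} ℤ)))).hom P)
    have h8 : φ ((Scheme.ΓSpecIso (CommRingCat.of (MvPolynomial n (ULift.{u} ℤ)))).hom P) =
        ((AffineSpace.toSpecMvPoly n S).appLE ⊤ ((𝔸(n; S) ↘ S) ⁻¹ᵁ U) le_top).hom P := by
      change ((AffineSpace.toSpecMvPoly n S).appLE ⊤ _ le_top).hom
        (((Scheme.ΓSpecIso (CommRingCat.of (MvPolynomial n (ULift.{u} ℤ)))).hom ≫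
          (Scheme.ΓSpecIso (CommRingCat.of (MvPolynomial n (ULift.{u} ℤ)))).inv) P) = _
      rw [Iso.hom_inv_id]
      rfl
    rw [h8] at h7
    exact h7
  · have h9 := h1 l
    rw [Scheme.Hom.app_eq_appLE] at h9
    exact h9

end Closure

section Points

variable {K : Type u} [Field K] {a b h : ℕ} {S T T' : Scheme.{u}}

theorem crd_comp (ψ : T' ⟶ T) (x : T ⟶ AS a b h S) : crd (ψ ≫ x) = fun l => (crd x l).map ψ.appTop.hom := by
  funext l
  ext i j
  rw [Matrix.map_apply, crd, crd, Scheme.Hom.comp_appTop]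
  rfl

theorem crd_id : crd (𝟙 (AS a b h S)) = fun l i j => AffineSpace.coord S (ULift.up (l, i, j)) := by
  funext l i j
  rw [crd, Scheme.Hom.id_appTop]
  rfl

theorem crd_pt (t : T ⟶ S) (α : Kr a b h Γ(T, ⊤)) : crd (pt t α) = α := by
  funext l i j
  rw [crd, pt, AffineSpace.homOfVector_appTop_coord]

theorem pt_over (t : T ⟶ S) (α : Kr a b h Γ(T, ⊤)) : pt t α ≫ prS a b h S = t :=
  AffineSpace.homOfVector_over _ _

theorem ext_AS {x y : T ⟶ AS a b h S} (h1 : x ≫ prS a b h S = y ≫ prS a b h S) (h2 : crd x = crd y) : x = y := by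
  apply AffineSpace.hom_ext h1
  rintro ⟨l, i, j⟩
  exact congrFun (congrFun (congrFun h2 l) i) j

theorem sOf_comp (ψ : T' ⟶ T) (t : T ⟶ Spec (CommRingCat.of K)) : sOf (ψ ≫ t) = ψ.appTop.hom.comp (sOf t) := by
  rw [sOf, sOf, Scheme.Hom.comp_appTop, CommRingCat.hom_comp, RingHom.comp_assoc]

variable (sS : S ⟶ Spec (CommRingCat.of K))

theorem app_fn (x : T ⟶ AS a b h S) (p : Poly K a b h) :
    x.appTop.hom (fn sS p) = evr (sOf ((x ≫ prS a b h S) ≫ sS)) (crd x) p := by
  rw [fn, KrSemi.map_evr, ← sOf_comp, ← crd_comp, Category.comp_id, Category.assoc]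

theorem actS_over (k : Matrix (Fin b) (Fin b) K) (g : Matrix (Fin a) (Fin a) K) :
    actS sS k g ≫ prS a b h S = prS a b h S := pt_over _ _

theorem crd_actS (x : T ⟶ AS a b h S) (k : Matrix (Fin b) (Fin b) K) (g : Matrix (Fin a) (Fin a) K) :
    crd (x ≫ actS sS k g) = act (k.map (sOf ((x ≫ prS a b h S) ≫ sS))) (g.map (sOf ((x ≫ prS a b h S) ≫ sS)))
      (crd x) := by
  rw [crd_comp, actS, crd_pt, KrSemi.map_act, ← crd_comp, Category.comp_id, Category.assoc, sOf_comp]
  rfl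

theorem evr_sub {B : Type u} [CommRing B] (c : K →+* B) (α : Kr a b h B) (k : Matrix (Fin b) (Fin b) K)
    (g : Matrix (Fin a) (Fin a) K) (p : Poly K a b h) :
    evr c α (sub k g p) = evr c (act (k.map c) (g.map c) α) p := by
  have h1 : (evr c α).comp (sub k g).toRingHom = evr c (act (k.map c) (g.map c) α) := by
    apply MvPolynomial.ringHom_ext
    · intro z
      rw [RingHom.comp_apply]
      change evr c α (sub k g (C z)) = _
      rw [KrSemi.evr_C, ← algebraMap_eq, AlgHom.commutes, algebraMap_eq, KrSemi.evr_C]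
    · intro q
      rw [RingHom.comp_apply]
      change evr c α (sub k g (X q)) = _
      rw [KrSemi.evr_X, sub, aeval_X]
      have h2 := KrSemi.map_act (evr c α) (k.map C) (g.map C) (gen K a b h)
      have h3 := congrFun (congrFun (congrFun h2 q.1) q.2.1) q.2.2
      rw [Matrix.map_apply] at h3
      have e1 : (k.map C).map (evr c α) = k.map c := by
        ext i j
        rw [Matrix.map_apply, Matrix.map_apply, Matrix.map_apply, KrSemi.evr_C]
      have e2 : (g.map C).map (evr c α) = g.map c := by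
        ext i j
        rw [Matrix.map_apply, Matrix.map_apply, Matrix.map_apply, KrSemi.evr_C]
      have e3 : (fun l => (gen K a b h l).map (evr c α)) = α := by
        funext l
        ext i j
        rw [Matrix.map_apply, gen, KrSemi.evr_X]
      rw [h3, e1, e2, e3]
  exact congr($h1 p)

/-- the semi-invariance for the action on `AS` -/
theorem app_actS_fn (x : T ⟶ AS a b h S) (k : Matrix (Fin b) (Fin b) K) (g : Matrix (Fin a) (Fin a) K)
    (p : Poly K a b h) : (x ≫ actS sS k g).appTop.hom (fn sS p) = x.appTop.hom (fn sS (sub k g p)) := by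
  have h1 : (x ≫ actS sS k g) ≫ prS a b h S = x ≫ prS a b h S := by rw [Category.assoc, actS_over]
  rw [app_fn, app_fn, crd_actS, evr_sub, h1]

/-- the homomorphism attached to a point -/
theorem exists_theta {x : T ⟶ AS a b h S} {U : S.Opens} {O : T.Opens} (hO : O ≤ (x ≫ prS a b h S) ⁻¹ᵁ U)
    [Algebra K Γ(S, U)] [Algebra K Γ(T, O)] (hS : ∀ z : K, algebraMap K Γ(S, U) z = gr U (sOf sS z))
    (hT : ∀ z : K, algebraMap K Γ(T, O) z = gr O (sOf ((x ≫ prS a b h S) ≫ sS) z)) :
    ∃ θ : TT K Γ(S, U) a b h →ₐ[K] Γ(T, O), ∀ (l : Γ(S, U)) (p : Poly K a b h),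
      θ (l ⊗ₜ p) = ((x ≫ prS a b h S).appLE U O hO).hom l * gr O (x.appTop.hom (fn sS p)) := by
  let u : Γ(S, U) →ₐ[K] Γ(T, O) :=
    { ((x ≫ prS a b h S).appLE U O hO).hom with
      commutes' := fun z => by
        change ((x ≫ prS a b h S).appLE U O hO).hom (algebraMap K Γ(S, U) z) = _
        rw [hS, appLE_gr, hT, sOf_comp]
        rfl }
  let v : Poly K a b h →ₐ[K] Γ(T, O) :=
    { (gr O).comp (x.appTop.hom.comp (evr (sOf (prS a b h S ≫ sS)) (crd (𝟙 _)))) with
      commutes' := fun z => by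
        change gr O (x.appTop.hom (evr (sOf (prS a b h S ≫ sS)) (crd (𝟙 _)) (C z))) = _
        rw [KrSemi.evr_C, hT, Category.assoc, sOf_comp]
        rfl }
  exact ⟨Algebra.TensorProduct.lift u v (fun _ _ => mul_comm _ _), fun l p => Algebra.TensorProduct.lift_tmul _ _ _ _ _⟩

/-- surjectivity for affine space itself -/
theorem theta_surjective {U : S.Opens} (hU : IsAffineOpen U) [Algebra K Γ(S, U)]
    [Algebra K Γ(AS a b h S, prS a b h S ⁻¹ᵁ U)]
    {θ : TT K Γ(S, U) a b h →ₐ[K] Γ(AS a b h S, prS a b h S ⁻¹ᵁ U)}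
    (hθ : ∀ (l : Γ(S, U)) (p : Poly K a b h),
      θ (l ⊗ₜ p) = ((prS a b h S).app U).hom l * gr (prS a b h S ⁻¹ᵁ U) (fn sS p)) : Function.Surjective θ := by
  have h := aff_closure (ULift.{u} (Idx a b h)) S hU θ.toRingHom.range ?_ ?_
  · intro y
    have hy : y ∈ θ.toRingHom.range := by rw [h]; trivial
    exact hy
  · intro l
    refine ⟨l ⊗ₜ 1, ?_⟩
    change θ (l ⊗ₜ 1) = _
    rw [hθ, fn, map_one, map_one, mul_one]
  · rintro ⟨x⟩
    refine ⟨1 ⊗ₜ X x, ?_⟩
    change θ (1 ⊗ₜ X x) = _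
    rw [hθ, map_one, one_mul, fn, KrSemi.evr_X, crd_id]

end Points

section Chart

variable {K : Type u} [Field K] {a b h m : ℕ} {S R : Scheme.{u}} (sS : S ⟶ Spec (CommRingCat.of K))
variable (f : Fin (m + 1) → Poly K a b h)

/-- the chart of affine space -/
noncomputable def OA (i : Fin (m + 1)) (U : S.Opens) : (AS a b h S).Opens :=
  (AS a b h S).basicOpen (fn sS (f i)) ⊓ prS a b h S ⁻¹ᵁ U

theorem OA_eq (i : Fin (m + 1)) (U : S.Opens) :
    OA sS f i U = (AS a b h S).basicOpen (gr (prS a b h S ⁻¹ᵁ U) (fn sS (f i))) := by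
  rw [Scheme.basicOpen_res, inf_comm]
  rfl

theorem isAffineOpen_pr {U : S.Opens} (hU : IsAffineOpen U) : IsAffineOpen (prS a b h S ⁻¹ᵁ U) := hU.preimage _

theorem isAffineOpen_OA (i : Fin (m + 1)) {U : S.Opens} (hU : IsAffineOpen U) : IsAffineOpen (OA sS f i U) := by
  rw [OA_eq]
  exact (isAffineOpen_pr hU).basicOpen _

theorem OA_le (i : Fin (m + 1)) (U : S.Opens) : OA sS f i U ≤ ssOpen sS f :=
  inf_le_left.trans (le_iSup (fun i => (AS a b h S).basicOpen (fn sS (f i))) i)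

theorem surj_of_restrict {X Y : Scheme.{u}} (f : X ⟶ Y) (U : Y.Opens)
    (h : Function.Surjective (f ∣_ U).appTop.hom) : Function.Surjective (f.app U).hom := by
  have h1 : ∀ V : Y.Opens, V = U.ι ''ᵁ ⊤ → Function.Surjective (f.app V).hom := by
    rintro _ rfl
    rw [morphismRestrict_appTop] at h
    intro c
    obtain ⟨d, hd⟩ := h ((X.presheaf.map (eqToHom (image_morphismRestrict_preimage f U ⊤)).op).hom c)
    exact ⟨d, (ConcreteCategory.bijective_of_isIso
      (X.presheaf.map (eqToHom (image_morphismRestrict_preimage f U ⊤)).op)).1 hd⟩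
  exact h1 U U.ι_image_top.symm

variable {sS f} {j : R ⟶ AS a b h S} [IsImmersion j]

/-- `j` is a closed immersion over the charts -/
theorem isClosedImmersion_chart (hcl : ∃ Z : Set (AS a b h S), IsClosed Z ∧ Set.range j = Z ∩ ssOpen sS f)
    (i : Fin (m + 1)) {U : S.Opens} (hU : IsAffineOpen U) : IsClosedImmersion (j ∣_ OA sS f i U) := by
  obtain ⟨Z, hZ, hjZ⟩ := hcl
  have hr : IsClosed (Set.range (j ∣_ OA sS f i U)) := by
    have h1 : Set.range (j ∣_ OA sS f i U) = (OA sS f i U).ι ⁻¹' Z := by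
      ext x
      constructor
      · rintro ⟨y, rfl⟩
        change (OA sS f i U).ι ((j ∣_ OA sS f i U) y) ∈ Z
        rw [← Scheme.Hom.comp_apply, morphismRestrict_ι, Scheme.Hom.comp_apply]
        have h2 : j ((j ⁻¹ᵁ OA sS f i U).ι y) ∈ Set.range j := ⟨_, rfl⟩
        rw [hjZ] at h2
        exact h2.1
      · intro hx
        have h3 : (OA sS f i U).ι x ∈ Set.range j := by
          rw [hjZ]
          exact ⟨hx, OA_le sS f i U x.2⟩
        obtain ⟨y, hy⟩ := h3
        refine ⟨⟨y, ?_⟩, ?_⟩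
        · change j y ∈ OA sS f i U
          rw [hy]
          exact x.2
        · apply (OA sS f i U).ι.injective
          rw [← Scheme.Hom.comp_apply, morphismRestrict_ι, Scheme.Hom.comp_apply]
          exact hy
    rw [h1]
    exact hZ.preimage (OA sS f i U).ι.continuous
  exact .of_isPreimmersion _ hr

/-- sections over the charts restrict surjectively -/
theorem app_surjective (hcl : ∃ Z : Set (AS a b h S), IsClosed Z ∧ Set.range j = Z ∩ ssOpen sS f) (i : Fin (m + 1))
    {U : S.Opens} (hU : IsAffineOpen U) : Function.Surjective (j.app (OA sS f i U)).hom := by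
  have hci := isClosedImmersion_chart hcl i hU
  have haff : IsAffine (OA sS f i U).toScheme := isAffineOpen_OA sS f i hU
  exact surj_of_restrict j _ (IsClosedImmersion.isAffine_surjective_of_isAffine (j ∣_ OA sS f i U)).2

/-- all functions on the chart are fractions -/
theorem exists_frac (hcl : ∃ Z : Set (AS a b h S), IsClosed Z ∧ Set.range j = Z ∩ ssOpen sS f) (i : Fin (m + 1))
    {U : S.Opens} (hU : IsAffineOpen U) {O : R.Opens} (hO : O = j ⁻¹ᵁ OA sS f i U) (hO' : O ≤ (j ≫ prS a b h S) ⁻¹ᵁ U)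
    [Algebra K Γ(S, U)] [Algebra K Γ(R, O)] (hS : ∀ z : K, algebraMap K Γ(S, U) z = gr U (sOf sS z))
    {θ : TT K Γ(S, U) a b h →ₐ[K] Γ(R, O)} (hθ : ∀ (l : Γ(S, U)) (p : Poly K a b h),
      θ (l ⊗ₜ p) = ((j ≫ prS a b h S).appLE U O hO').hom l * gr O (j.appTop.hom (fn sS p))) (c : Γ(R, O)) :
    ∃ (n : ℕ) (p : TT K Γ(S, U) a b h), c * θ (1 ⊗ₜ f i) ^ n = θ p := by
  subst hO
  obtain ⟨c', hc'⟩ := app_surjective hcl i hU c
  have hOA : OA sS f i U ≤ prS a b h S ⁻¹ᵁ U := inf_le_right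
  let s := gr (prS a b h S ⁻¹ᵁ U) (fn sS (f i))
  have hloc := (isAffineOpen_pr hU).isLocalization_of_eq_basicOpen s (homOfLE hOA) (OA_eq sS f i U)
  let res : Γ(AS a b h S, prS a b h S ⁻¹ᵁ U) →+* Γ(AS a b h S, OA sS f i U) :=
    ((AS a b h S).presheaf.map (homOfLE hOA).op).hom
  let _ := res.toAlgebra
  obtain ⟨⟨x, ⟨_, n, rfl⟩⟩, hx⟩ := IsLocalization.surj (Submonoid.powers s) c'
  have hx' : c' * res (s ^ n) = res x := hx
  let _ : Algebra K Γ(AS a b h S, prS a b h S ⁻¹ᵁ U) :=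
    ((gr (prS a b h S ⁻¹ᵁ U)).comp (sOf ((𝟙 (AS a b h S) ≫ prS a b h S) ≫ sS))).toAlgebra
  have hle : prS a b h S ⁻¹ᵁ U ≤ (𝟙 (AS a b h S) ≫ prS a b h S) ⁻¹ᵁ U := by rw [Category.id_comp]
  obtain ⟨θA, hθA⟩ := exists_theta sS (x := 𝟙 (AS a b h S)) hle hS (fun z => rfl)
  have hθA' : ∀ (l : Γ(S, U)) (p : Poly K a b h),
      θA (l ⊗ₜ p) = ((prS a b h S).app U).hom l * gr (prS a b h S ⁻¹ᵁ U) (fn sS p) := by
    intro l p
    rw [hθA]
    congr 1
    rw [Scheme.Hom.app_eq_appLE]
    simp only [Category.id_comp]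
  obtain ⟨p, rfl⟩ := theta_surjective sS hU hθA' x
  have key : ∀ p, (j.app (OA sS f i U)).hom (res (θA p)) = θ p := by
    intro p
    induction p using TensorProduct.induction_on with
    | zero => simp only [map_zero]
    | add x y hx hy => simp only [map_add, hx, hy]
    | tmul l q =>
      rw [hθA', hθ, map_mul, map_mul]
      congr 1
      · have : (prS a b h S).app U ≫ (AS a b h S).presheaf.map (homOfLE hOA).op ≫ j.app (OA sS f i U) =
            (j ≫ prS a b h S).appLE U (j ⁻¹ᵁ OA sS f i U) hO' := by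
          rw [Scheme.Hom.app_eq_appLE, Scheme.Hom.appLE_map_assoc, Scheme.Hom.app_eq_appLE,
            Scheme.Hom.appLE_comp_appLE]
        exact congr($this l)
      · have : (AS a b h S).presheaf.map (homOfLE (le_top : prS a b h S ⁻¹ᵁ U ≤ ⊤)).op ≫
            (AS a b h S).presheaf.map (homOfLE hOA).op ≫ j.app (OA sS f i U) =
            j.app ⊤ ≫ R.presheaf.map (homOfLE (le_top : j ⁻¹ᵁ OA sS f i U ≤ ⊤)).op := by
          rw [Scheme.Hom.app_eq_appLE, Scheme.Hom.app_eq_appLE, Scheme.Hom.map_appLE, Scheme.Hom.map_appLE,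
            Scheme.Hom.appLE_map]
        exact congr($this (fn sS q))
  have hs : θA (1 ⊗ₜ f i) = s := by rw [hθA', map_one, one_mul]
  refine ⟨n, p, ?_⟩
  rw [← key, ← key, ← hx', hs, map_mul, map_pow, map_pow, ← hc']

end Chart

end K739.KrAff
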