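import Groth.Agent.Coherent.K739.KrSemi
import Mathlib.LinearAlgebra.TensorProduct.Prod
import Mathlib.RingTheory.TensorProduct.Basic

/-!
# Kronecker modules: the operator `(Λ ⊗ A)` (homogeneous component followed by the Reynolds operator)

* `subL`: substitution on `Λ ⊗ A`; `cp d`: component of degree `d`; `Op ρ d = (Λ ⊗ ρ) ∘ cp d`.
* `cp_mem`: a subspace stable under scalars is graded.
* `reynolds_mem`: if `N` is `SL`-stable and `p` is invariant modulo `N` then `(Λ ⊗ ρ) p - p ∈ N`.
-/

set_option autoImplicit false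
set_option linter.unusedVariables false
set_option backward.isDefEq.respectTransparency false
set_option backward.isDefEq.respectTransparency.types false

universe u

open MvPolynomial K585.KronK TensorProduct

namespace K739.KrAlg

variable {K : Type u} [Field K] {a b h : ℕ}

theorem evr_gen (p : Poly K a b h) : evr C (gen K a b h) p = p := by
  have : evr C (gen K a b h) = RingHom.id _ := by
    apply MvPolynomial.ringHom_ext
    · intro r; rw [KrSemi.evr_C, RingHom.id_apply]
    · intro q; rw [KrSemi.evr_X, RingHom.id_apply]; rfl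
  rw [this, RingHom.id_apply]

theorem sub_eq (k : Matrix (Fin b) (Fin b) K) (g : Matrix (Fin a) (Fin a) K) (p : Poly K a b h) :
    sub k g p = evr C (act (k.map C) (g.map C) (gen K a b h)) p := rfl

theorem sub_scalar (v : K) {p : Poly K a b h} {d : ℕ} (hp : p.IsHomogeneous d) :
    sub (v • 1) 1 p = v ^ d • p := by
  have h1 : act ((v • (1 : Matrix (Fin b) (Fin b) K)).map C) ((1 : Matrix (Fin a) (Fin a) K).map C)
      (gen K a b h) = fun l => (C v : Poly K a b h) • gen K a b h l := by
    have h2 : (v • (1 : Matrix (Fin b) (Fin b) K)).map (C : K →+* Poly K a b h) =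
        (C v : Poly K a b h) • (1 : Matrix (Fin b) (Fin b) (Poly K a b h)) := by
      ext i j
      rw [Matrix.map_apply, Matrix.smul_apply, Matrix.smul_apply, smul_eq_mul, smul_eq_mul, map_mul, Matrix.one_apply,
        Matrix.one_apply]
      split_ifs <;> simp
    have h3 : (1 : Matrix (Fin a) (Fin a) K).map (C : K →+* Poly K a b h) = 1 :=
      Matrix.map_one _ (map_zero _) (map_one _)
    rw [h2, h3]
    funext l
    simp [act]
  rw [sub_eq, h1, KrSemi.evr_smul _ _ _ hp, evr_gen, ← map_pow, ← smul_eq_C_mul]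

section Comp

theorem homogeneousComponent_mul_right {q g : Poly K a b h} {n l : ℕ} (hg : g.IsHomogeneous l) :
    homogeneousComponent (n + l) (q * g) = homogeneousComponent n q * g := by
  have h1 : ∀ D, q.totalDegree + 1 ≤ D → ∑ i ∈ Finset.range D, homogeneousComponent i q = q := by
    intro D hD
    conv_rhs => rw [← sum_homogeneousComponent q]
    symm
    apply Finset.sum_subset (Finset.range_subset_range.2 hD)
    intro d _ hd
    apply homogeneousComponent_eq_zero
    rw [Finset.mem_range, not_lt] at hd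
    omega
  have h2 := h1 (max (q.totalDegree + 1) (n + 1)) (le_max_left _ _)
  conv_lhs => rw [← h2, Finset.sum_mul, map_sum]
  have h3 : ∀ i ∈ Finset.range (max (q.totalDegree + 1) (n + 1)),
      homogeneousComponent (n + l) (homogeneousComponent i q * g) =
        if i = n then homogeneousComponent i q * g else 0 := by
    intro i _
    rw [homogeneousComponent_of_mem (m := n + l) (n := i + l)
      ((mem_homogeneousSubmodule _ _).2 ((homogeneousComponent_isHomogeneous i q).mul hg))]
    simp only [add_left_inj]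
    split_ifs with h4 h5 h5
    · rfl
    · exact absurd h4.symm h5
    · exact absurd h5.symm h4
    · rfl
  rw [Finset.sum_congr rfl h3, Finset.sum_ite_eq' _ n, if_pos]
  exact Finset.mem_range.2 (lt_of_lt_of_le (Nat.lt_succ_self n) (le_max_right _ _))

end Comp

variable (Λ : Type u) [CommRing Λ] [Algebra K Λ]

/-- `Λ ⊗ A` -/
abbrev TT (K : Type u) [Field K] (Λ : Type u) [CommRing Λ] [Algebra K Λ] (a b h : ℕ) :=
  TensorProduct K Λ (Poly K a b h)

/-- substitution on `Λ ⊗ A` -/
noncomputable def subL (k : Matrix (Fin b) (Fin b) K) (g : Matrix (Fin a) (Fin a) K) :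
    TT K Λ a b h →ₐ[K] TT K Λ a b h := Algebra.TensorProduct.map (AlgHom.id K Λ) (sub k g)

theorem subL_tmul (k : Matrix (Fin b) (Fin b) K) (g : Matrix (Fin a) (Fin a) K) (l : Λ) (q : Poly K a b h) :
    subL Λ k g (l ⊗ₜ q) = l ⊗ₜ sub k g q := rfl

theorem subL_eq (k : Matrix (Fin b) (Fin b) K) (g : Matrix (Fin a) (Fin a) K) (p : TT K Λ a b h) :
    subL Λ k g p = ((sub k g).toLinearMap.lTensor Λ) p := rfl

/-- component of degree `d` -/
noncomputable def cp (d : ℕ) : TT K Λ a b h →ₗ[K] TT K Λ a b h := (homogeneousComponent d).lTensor Λ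

theorem cp_tmul (d : ℕ) (l : Λ) (q : Poly K a b h) : cp Λ d (l ⊗ₜ q) = l ⊗ₜ homogeneousComponent d q := rfl

theorem cp_cp (d d' : ℕ) (p : TT K Λ a b h) : cp Λ d (cp Λ d' p) = if d' = d then cp Λ d' p else 0 := by
  induction p using TensorProduct.induction_on with
  | zero => simp
  | add p q hp hq =>
    rw [map_add, map_add, hp, hq]
    split_ifs
    · rfl
    · rw [add_zero]
  | tmul l q =>
    rw [cp_tmul, cp_tmul, homogeneousComponent_of_mem (m := d) (n := d')
      ((mem_homogeneousSubmodule _ _).2 (homogeneousComponent_isHomogeneous d' q))]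
    split_ifs with h1 h2 h2
    · rfl
    · exact absurd h1.symm h2
    · exact absurd h2.symm h1
    · rw [tmul_zero]

theorem subL_scalar_cp (v : K) (d : ℕ) (p : TT K Λ a b h) :
    subL Λ (v • 1) 1 (cp Λ d p) = v ^ d • cp Λ d p := by
  induction p using TensorProduct.induction_on with
  | zero => rw [map_zero, map_zero, smul_zero]
  | add p q hp hq => rw [map_add, map_add, hp, hq, smul_add]
  | tmul l q => rw [cp_tmul, subL_tmul, sub_scalar v (homogeneousComponent_isHomogeneous d q), tmul_smul]

theorem sum_cp (p : TT K Λ a b h) : ∃ D0 : ℕ, ∀ D, D0 ≤ D → ∑ d ∈ Finset.range D, cp Λ d p = p := by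
  induction p using TensorProduct.induction_on with
  | zero => exact ⟨0, fun D _ => by simp⟩
  | add p q hp hq =>
    obtain ⟨D1, h1⟩ := hp
    obtain ⟨D2, h2⟩ := hq
    refine ⟨max D1 D2, fun D hD => ?_⟩
    simp only [map_add, Finset.sum_add_distrib]
    rw [h1 D ((le_max_left _ _).trans hD), h2 D ((le_max_right _ _).trans hD)]
  | tmul l q =>
    refine ⟨q.totalDegree + 1, fun D hD => ?_⟩
    simp only [cp_tmul]
    rw [← tmul_sum]
    congr 1
    conv_rhs => rw [← sum_homogeneousComponent q]
    symm
    apply Finset.sum_subset (Finset.range_subset_range.2 hD)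
    intro d _ hd
    apply homogeneousComponent_eq_zero
    rw [Finset.mem_range, not_lt] at hd
    omega

/-- the subspace is stable under scalars -/
def StabSc (N : Submodule K (TT K Λ a b h)) : Prop := ∀ v : K, v ≠ 0 → ∀ p ∈ N, subL Λ (v • 1) 1 p ∈ N

/-- stable under `SL` -/
def StabSL (N : Submodule K (TT K Λ a b h)) : Prop :=
  ∀ (k : Matrix (Fin b) (Fin b) K) (g : Matrix (Fin a) (Fin a) K), k.det = 1 → g.det = 1 →
    ∀ p ∈ N, subL Λ k g p ∈ N

variable {Λ}

omit [CommRing Λ] [Algebra K Λ] in
theorem pow_two_inj [CharZero K] {d d' : ℕ} (h : (2 : K) ^ d = (2 : K) ^ d') : d = d' := by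
  have h1 : ((2 ^ d : ℕ) : K) = ((2 ^ d' : ℕ) : K) := by push_cast; exact h
  exact Nat.pow_right_injective (le_refl 2) (Nat.cast_injective h1)

theorem mem_of_sum [CharZero K] {N : Submodule K (TT K Λ a b h)} (hN : StabSc Λ N) (s : Finset ℕ) :
    ∀ x : ℕ → TT K Λ a b h, (∀ d, subL Λ ((2 : K) • 1) 1 (x d) = (2 : K) ^ d • x d) → ∑ d ∈ s, x d ∈ N →
      ∀ d ∈ s, x d ∈ N := by
  induction s using Finset.induction_on with
  | empty => intro x _ _ d hd; exact absurd hd (Finset.notMem_empty d)
  | insert d0 s hd0 ih =>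
    intro x hx hsum
    rw [Finset.sum_insert hd0] at hsum
    have h1 : ∑ d ∈ s, ((2 : K) ^ d - (2 : K) ^ d0) • x d ∈ N := by
      have h2 := N.sub_mem (hN 2 two_ne_zero _ hsum) (N.smul_mem ((2 : K) ^ d0) hsum)
      have h3 : subL Λ ((2 : K) • 1) 1 (x d0 + ∑ d ∈ s, x d) - (2 : K) ^ d0 • (x d0 + ∑ d ∈ s, x d) =
          ∑ d ∈ s, ((2 : K) ^ d - (2 : K) ^ d0) • x d := by
        have h4 : ∀ d ∈ s, ((2 : K) ^ d - (2 : K) ^ d0) • x d = (2 : K) ^ d • x d - (2 : K) ^ d0 • x d :=
          fun d _ => sub_smul ((2 : K) ^ d) ((2 : K) ^ d0) (x d)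
        rw [Finset.sum_congr rfl h4, Finset.sum_sub_distrib, map_add, hx, map_sum, smul_add, Finset.smul_sum]
        simp only [hx]
        abel
      rwa [h3] at h2
    have h4 := ih (fun d => ((2 : K) ^ d - (2 : K) ^ d0) • x d) (by
      intro d
      rw [map_smul, hx, smul_comm]) h1
    have h5 : ∀ d ∈ s, x d ∈ N := by
      intro d hd
      have hne : (2 : K) ^ d - (2 : K) ^ d0 ≠ 0 := by
        rw [sub_ne_zero]
        intro heq
        apply hd0
        have : d = d0 := by
          exact pow_two_inj heq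
        rwa [← this]
      have h6 := N.smul_mem ((2 : K) ^ d - (2 : K) ^ d0)⁻¹ (h4 d hd)
      rwa [smul_smul, inv_mul_cancel₀ hne, one_smul] at h6
    intro d hd
    rcases Finset.mem_insert.1 hd with rfl | hd
    · have h7 := N.sub_mem hsum (N.sum_mem h5)
      rwa [add_sub_cancel_right] at h7
    · exact h5 d hd

/-- **A subspace stable under scalars is graded.** -/
theorem cp_mem [CharZero K] {N : Submodule K (TT K Λ a b h)} (hN : StabSc Λ N) {p : TT K Λ a b h} (hp : p ∈ N) (d : ℕ) :
    cp Λ d p ∈ N := by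
  obtain ⟨D0, hD⟩ := sum_cp Λ p
  refine mem_of_sum hN (Finset.range (max D0 (d + 1))) (fun d => cp Λ d p) (fun d => subL_scalar_cp Λ 2 d p) ?_ d ?_
  · rw [hD _ (le_max_left _ _)]
    exact hp
  · exact Finset.mem_range.2 (lt_of_lt_of_le (Nat.lt_succ_self d) (le_max_right _ _))

variable {m e : ℕ} {f : Fin (m + 1) → Poly K a b h} {ρ : Poly K a b h →ₗ[K] Poly K a b h}

theorem isInv_one : IsInv (1 : Poly K a b h) := by
  intro k g α _ _
  rw [map_one, map_one]

theorem IsInv.mul {p q : Poly K a b h} (hp : IsInv p) (hq : IsInv q) : IsInv (p * q) := by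
  intro k g α hk hg
  rw [map_mul, map_mul, hp k g α hk hg, hq k g α hk hg]

theorem IsInv.pow {p : Poly K a b h} (hp : IsInv p) (n : ℕ) : IsInv (p ^ n) := by
  intro k g α hk hg
  rw [map_pow, map_pow, hp k g α hk hg]

/-- **The Reynolds operator fixes invariants modulo a stable subspace.** -/
theorem reynolds_mem (P : Pack a b h m e f ρ) {N : Submodule K (TT K Λ a b h)} (hN : StabSL Λ N) {p : TT K Λ a b h}
    (hp : ∀ (k : Matrix (Fin b) (Fin b) K) (g : Matrix (Fin a) (Fin a) K), k.det = 1 → g.det = 1 →
      subL Λ k g p - p ∈ N) : (ρ.lTensor Λ) p - p ∈ N := by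
  let pr1 : TT K (Λ × K) a b h →ₗ[K] TT K Λ a b h := (LinearMap.fst K Λ K).rTensor (Poly K a b h)
  let pr2 : TT K (Λ × K) a b h →ₗ[K] TT K K a b h := (LinearMap.snd K Λ K).rTensor (Poly K a b h)
  let in1 : TT K Λ a b h →ₗ[K] TT K (Λ × K) a b h := (LinearMap.inl K Λ K).rTensor (Poly K a b h)
  let in2 : TT K K a b h →ₗ[K] TT K (Λ × K) a b h := (LinearMap.inr K Λ K).rTensor (Poly K a b h)
  have hc1 : ∀ (F : Poly K a b h →ₗ[K] Poly K a b h) x, pr1 ((F.lTensor (Λ × K)) x) = (F.lTensor Λ) (pr1 x) := by
    intro F x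
    induction x using TensorProduct.induction_on with
    | zero => simp
    | add x y hx hy => simp only [map_add, hx, hy]
    | tmul l q => rfl
  have hc2 : ∀ (F : Poly K a b h →ₗ[K] Poly K a b h) x, pr2 ((F.lTensor (Λ × K)) x) = (F.lTensor K) (pr2 x) := by
    intro F x
    induction x using TensorProduct.induction_on with
    | zero => simp
    | add x y hx hy => simp only [map_add, hx, hy]
    | tmul l q => rfl
  have h11 : ∀ x, pr1 (in1 x) = x := by
    intro x
    induction x using TensorProduct.induction_on with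
    | zero => simp
    | add x y hx hy => simp only [map_add, hx, hy]
    | tmul l q => rfl
  have h12 : ∀ x, pr1 (in2 x) = 0 := by
    intro x
    induction x using TensorProduct.induction_on with
    | zero => simp
    | add x y hx hy => simp only [map_add, hx, hy, add_zero]
    | tmul l q => change (0 : Λ) ⊗ₜ[K] q = 0; rw [zero_tmul]
  have h21 : ∀ x, pr2 (in1 x) = 0 := by
    intro x
    induction x using TensorProduct.induction_on with
    | zero => simp
    | add x y hx hy => simp only [map_add, hx, hy, add_zero]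
    | tmul l q => change (0 : K) ⊗ₜ[K] q = 0; rw [zero_tmul]
  have h22 : ∀ x, pr2 (in2 x) = x := by
    intro x
    induction x using TensorProduct.induction_on with
    | zero => simp
    | add x y hx hy => simp only [map_add, hx, hy]
    | tmul l q => rfl
  let J : Submodule K (TT K (Λ × K) a b h) :=
    { carrier := {x | ∃ μ : K, pr2 x = μ • (1 : TT K K a b h) ∧ pr1 x - μ • p ∈ N}
      zero_mem' := ⟨0, by simp, by simp⟩
      add_mem' := by
        rintro x y ⟨μ, h1, h2⟩ ⟨ν, h3, h4⟩
        refine ⟨μ + ν, by rw [map_add, h1, h3, add_smul], ?_⟩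
        have := N.add_mem h2 h4
        convert this using 1
        rw [map_add, add_smul]
        abel
      smul_mem' := by
        rintro z x ⟨μ, h1, h2⟩
        refine ⟨z * μ, by rw [map_smul, h1, smul_smul], ?_⟩
        have := N.smul_mem z h2
        convert this using 1
        rw [map_smul, smul_sub, smul_smul] }
  have hJ := P.ρ_stable (Λ × K) J (by
    rintro k g hk hg x ⟨μ, h1, h2⟩
    refine ⟨μ, ?_, ?_⟩
    · rw [hc2, h1, map_smul, ← subL_eq, map_one]
    · rw [hc1]
      have h3 := N.add_mem (hN k g hk hg _ h2) (N.smul_mem μ (hp k g hk hg))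
      convert h3 using 1
      rw [← subL_eq, map_sub, map_smul, smul_sub]
      abel)
  have hx0 : in1 p + in2 1 ∈ J := by
    refine ⟨1, ?_, ?_⟩
    · rw [map_add, h21, h22, zero_add, one_smul]
    · rw [map_add, h11, h12, add_zero, one_smul, sub_self]
      exact N.zero_mem
  obtain ⟨μ, h1, h2⟩ := hJ hx0
  rw [hc2, map_add, h21, h22, zero_add] at h1
  rw [hc1, map_add, h11, h12, add_zero] at h2
  have h3 : (ρ.lTensor K) (1 : TT K K a b h) = 1 := by
    rw [Algebra.TensorProduct.one_def, LinearMap.lTensor_tmul, P.ρ_eq _ isInv_one]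
  rw [h3] at h1
  have h4 : μ = 1 := by
    have h5 : algebraMap K (TT K K a b h) μ = algebraMap K (TT K K a b h) 1 := by
      rw [Algebra.algebraMap_eq_smul_one, map_one]
      exact h1.symm
    have hinj : Function.Injective (algebraMap K (TT K K a b h)) := by
      have : Nontrivial (TT K K a b h) := (TensorProduct.lid K (Poly K a b h)).symm.injective.nontrivial
      exact FaithfulSMul.algebraMap_injective _ _
    exact hinj h5
  rwa [h4, one_smul] at h2

/-- the affine span version, for finite families -/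
theorem reynolds_span (P : Pack a b h m e f ρ) {ι : Type u} [Finite ι] (p : ι → TT K Λ a b h)
    {N : Submodule K (ι → TT K Λ a b h)}
    (hN : ∀ (k : Matrix (Fin b) (Fin b) K) (g : Matrix (Fin a) (Fin a) K), k.det = 1 → g.det = 1 →
      ∀ q ∈ N, (fun t => subL Λ k g (q t)) ∈ N)
    (hp : ∀ (k : Matrix (Fin b) (Fin b) K) (g : Matrix (Fin a) (Fin a) K), k.det = 1 → g.det = 1 →
      (fun t => subL Λ k g (p t) - p t) ∈ N) : (fun t => (ρ.lTensor Λ) (p t) - p t) ∈ N := by
  classical
  have := Fintype.ofFinite ι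
  let pr : (t : ι) → TT K (ι → Λ) a b h →ₗ[K] TT K Λ a b h := fun t =>
    (LinearMap.proj (R := K) (φ := fun _ : ι => Λ) t).rTensor (Poly K a b h)
  let inn : (t : ι) → TT K Λ a b h →ₗ[K] TT K (ι → Λ) a b h := fun t =>
    (LinearMap.single K (fun _ : ι => Λ) t).rTensor (Poly K a b h)
  have hc : ∀ (t : ι) (F : Poly K a b h →ₗ[K] Poly K a b h) x, pr t ((F.lTensor (ι → Λ)) x) = (F.lTensor Λ) (pr t x) := by
    intro t F x
    induction x using TensorProduct.induction_on with
    | zero => simp only [map_zero]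
    | add x y hx hy => simp only [map_add, hx, hy]
    | tmul l q => rfl
  have hs : ∀ (t s : ι) x, pr t (inn s x) = if t = s then x else 0 := by
    intro t s x
    induction x using TensorProduct.induction_on with
    | zero => simp only [map_zero, ite_self]
    | add x y hx hy => simp only [map_add, hx, hy]; split_ifs <;> simp
    | tmul l q =>
      change ((Pi.single s l : ι → Λ) t) ⊗ₜ[K] q = _
      split_ifs with h1
      · rw [h1, Pi.single_eq_same]
      · rw [Pi.single_eq_of_ne h1, zero_tmul]
  let N' : Submodule K (TT K (ι → Λ) a b h) := N.comap (LinearMap.pi pr)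
  let P0 : TT K (ι → Λ) a b h := ∑ s, inn s (p s)
  have hP0 : ∀ t, pr t P0 = p t := by
    intro t
    rw [map_sum]
    simp only [hs]
    rw [Finset.sum_ite_eq Finset.univ t, if_pos (Finset.mem_univ t)]
  have h1 := reynolds_mem P (N := N') (p := P0) (by
    intro k g hk hg q hq
    have h2 := hN k g hk hg _ hq
    change (fun t => pr t (subL (ι → Λ) k g q)) ∈ N
    have h3 : (fun t => pr t (subL (ι → Λ) k g q)) = fun t => subL Λ k g (pr t q) := by
      funext t
      exact hc t _ q
    rw [h3]
    exact h2) (by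
    intro k g hk hg
    change (fun t => pr t (subL (ι → Λ) k g P0 - P0)) ∈ N
    have h3 : (fun t => pr t (subL (ι → Λ) k g P0 - P0)) = fun t => subL Λ k g (p t) - p t := by
      funext t
      rw [map_sub, hP0]
      congr 1
      rw [← hP0 t]
      exact hc t _ P0
    rw [h3]
    exact hp k g hk hg)
  have h4 : (fun t => pr t ((ρ.lTensor (ι → Λ)) P0 - P0)) ∈ N := h1
  have h3 : (fun t => pr t ((ρ.lTensor (ι → Λ)) P0 - P0)) = fun t => (ρ.lTensor Λ) (p t) - p t := by
    funext t
    rw [map_sub, hP0, hc, hP0]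
  rwa [h3] at h4

end K739.KrAlg
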