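import Groth.Agent.Coherent.K739.KrRho

/-!
# Kronecker modules: the Reynolds operator on the coordinate rings of the charts

`ChartData θ i gam`: a ring `C` with `θ : Λ ⊗ A → C` such that `θ f_i` is a unit and all elements of `C` are
`θ p / θ (f_i)^n`, with compatible actions of the invertible matrices over `K`. `Rel`: the graph of the Reynolds operator.
-/

set_option autoImplicit false
set_option linter.unusedVariables false
set_option linter.unusedSectionVars false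
set_option backward.isDefEq.respectTransparency false
set_option backward.isDefEq.respectTransparency.types false

universe u

open MvPolynomial K585.KronK TensorProduct K739.KrAlg

namespace K739.KrOp

variable {K : Type u} [Field K] {a b h : ℕ} {Λ : Type u} [CommRing Λ] [Algebra K Λ]
variable {m e : ℕ} {f : Fin (m + 1) → Poly K a b h} (ρ : Poly K a b h →ₗ[K] Poly K a b h)

/-- component of degree `d` followed by the Reynolds operator -/
noncomputable def Op (d : ℕ) : TT K Λ a b h →ₗ[K] TT K Λ a b h := (ρ.lTensor Λ) ∘ₗ cp Λ d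

theorem Op_tmul (d : ℕ) (l : Λ) (q : Poly K a b h) : Op ρ d (l ⊗ₜ[K] q) = l ⊗ₜ ρ (homogeneousComponent d q) := rfl

/-- combinations of invariant homogeneous polynomials of degree `d` -/
noncomputable def IH (K : Type u) [Field K] (Λ : Type u) [CommRing Λ] [Algebra K Λ] (a b h d : ℕ) :
    Submodule K (TT K Λ a b h) :=
  Submodule.span K {x | ∃ (l : Λ) (u : Poly K a b h), IsInv u ∧ u.IsHomogeneous d ∧ x = l ⊗ₜ u}

variable {ρ}

theorem Op_mem (P : Pack a b h m e f ρ) (d : ℕ) (p : TT K Λ a b h) : Op ρ d p ∈ IH K Λ a b h d := by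
  induction p using TensorProduct.induction_on with
  | zero => rw [map_zero]; exact Submodule.zero_mem _
  | add p q hp hq => rw [map_add]; exact Submodule.add_mem _ hp hq
  | tmul l q =>
    exact Submodule.subset_span ⟨l, _, P.ρ_inv _, P.ρ_hom d _ (homogeneousComponent_isHomogeneous d q), rfl⟩

theorem Op_mul (P : Pack a b h m e f ρ) (d d' : ℕ) (p q : TT K Λ a b h) (hq : q ∈ IH K Λ a b h d') :
    Op ρ (d + d') (p * q) = Op ρ d p * q := by
  induction hq using Submodule.span_induction with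
  | zero => rw [mul_zero, mul_zero, map_zero]
  | add q q' _ _ h1 h2 => rw [mul_add, mul_add, map_add, h1, h2]
  | smul z q _ h1 => rw [mul_smul_comm, mul_smul_comm, map_smul, h1]
  | mem q hq =>
    obtain ⟨l', u, hu, hud, rfl⟩ := hq
    induction p using TensorProduct.induction_on with
    | zero => rw [zero_mul, map_zero, map_zero, zero_mul]
    | add p p' h1 h2 => rw [add_mul, map_add, map_add, add_mul, h1, h2]
    | tmul l p =>
      rw [Algebra.TensorProduct.tmul_mul_tmul, Op_tmul, Op_tmul, Algebra.TensorProduct.tmul_mul_tmul,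
        homogeneousComponent_mul_right hud, mul_comm _ u, P.ρ_mul _ _ hu, mul_comm u]

theorem pow_mem_IH (P : Pack a b h m e f ρ) (i : Fin (m + 1)) (n : ℕ) :
    ((1 : Λ) ⊗ₜ[K] f i) ^ n ∈ IH K Λ a b h (n * e) := by
  rw [Algebra.TensorProduct.tmul_pow, one_pow]
  refine Submodule.subset_span ⟨1, f i ^ n, K739.KrAlg.IsInv.pow (P.inv i) n, ?_, rfl⟩
  rw [mul_comm]
  exact (P.hom i).pow n

theorem Op_mul_pow (P : Pack a b h m e f ρ) (i : Fin (m + 1)) (n l : ℕ) (p : TT K Λ a b h) :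
    Op ρ ((n + l) * e) (p * ((1 : Λ) ⊗ₜ[K] f i) ^ l) = Op ρ (n * e) p * ((1 : Λ) ⊗ₜ[K] f i) ^ l := by
  rw [add_mul]
  exact Op_mul P _ _ _ _ (pow_mem_IH P i l)

/-- graded `SL`-stable subspaces are preserved by the operators -/
theorem Op_mem_of_stab [CharZero K] (P : Pack a b h m e f ρ) {N : Submodule K (TT K Λ a b h)}
    (h1 : StabSc Λ N) (h2 : StabSL Λ N) {p : TT K Λ a b h} (hp : p ∈ N) (d : ℕ) : Op ρ d p ∈ N :=
  P.ρ_stable Λ N (fun k g hk hg q hq => h2 k g hk hg q hq) (cp_mem h1 hp d)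

theorem mul_pow_mem_iff {C : Type u} [CommRing C] {F : C} (hF : IsUnit F) (J : Ideal C) (c : C) (n : ℕ) :
    c * F ^ n ∈ J ↔ c ∈ J := by
  constructor
  · intro hc
    obtain ⟨u, hu⟩ := hF.pow n
    have := J.mul_mem_right (↑u⁻¹) hc
    rwa [← hu, mul_assoc, Units.mul_inv, mul_one] at this
  · exact fun hc => J.mul_mem_right _ hc

theorem cp_subL_scalar (v : K) (d : ℕ) (p : TT K Λ a b h) :
    cp Λ d (subL Λ (v • 1) 1 p) = v ^ d • cp Λ d p := by
  obtain ⟨D0, hD⟩ := sum_cp Λ p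
  have h1 := hD (max D0 (d + 1)) (le_max_left _ _)
  have h2 : d ∈ Finset.range (max D0 (d + 1)) :=
    Finset.mem_range.2 (lt_of_lt_of_le (Nat.lt_succ_self _) (le_max_right _ _))
  conv_lhs => rw [← h1, map_sum, map_sum]
  have h3 : ∀ d' ∈ Finset.range (max D0 (d + 1)), cp Λ d (subL Λ (v • 1) 1 (cp Λ d' p)) =
      if d' = d then v ^ d • cp Λ d p else 0 := by
    intro d' _
    rw [subL_scalar_cp, map_smul, cp_cp]
    split_ifs with h4
    · rw [h4]
    · rw [smul_zero]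
  rw [Finset.sum_congr rfl h3, Finset.sum_ite_eq' _ d, if_pos h2]

theorem subL_subL (k k' : Matrix (Fin b) (Fin b) K) (g g' : Matrix (Fin a) (Fin a) K) (p : TT K Λ a b h) :
    subL Λ k g (subL Λ k' g' p) = subL Λ (k' * k) (g * g') p := by
  induction p using TensorProduct.induction_on with
  | zero => simp only [map_zero]
  | add p q hp hq => simp only [map_add, hp, hq]
  | tmul l q => rw [subL_tmul, subL_tmul, subL_tmul, K496.KrRey.sub_sub]

theorem cp_subL (k : Matrix (Fin b) (Fin b) K) (g : Matrix (Fin a) (Fin a) K) (d : ℕ) (p : TT K Λ a b h) :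
    cp Λ d (subL Λ k g p) = subL Λ k g (cp Λ d p) := by
  obtain ⟨D0, hD⟩ := sum_cp Λ p
  have h1 := hD (max D0 (d + 1)) (le_max_left _ _)
  have h2 : d ∈ Finset.range (max D0 (d + 1)) :=
    Finset.mem_range.2 (lt_of_lt_of_le (Nat.lt_succ_self _) (le_max_right _ _))
  have h4 : ∀ (d' : ℕ) (q : TT K Λ a b h), cp Λ d (subL Λ k g (cp Λ d' q)) =
      if d' = d then subL Λ k g (cp Λ d' q) else 0 := by
    intro d' q
    induction q using TensorProduct.induction_on with
    | zero => simp only [map_zero, ite_self]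
    | add x y hx hy => simp only [map_add, hx, hy]; split_ifs <;> simp
    | tmul l q =>
      rw [cp_tmul, subL_tmul, cp_tmul, homogeneousComponent_of_mem (m := d) (n := d')
        ((mem_homogeneousSubmodule _ _).2 (K496.KrRey.sub_isHomogeneous k g (homogeneousComponent_isHomogeneous d' q)))]
      split_ifs with h1 h2 h2
      · rfl
      · exact absurd h1.symm h2
      · exact absurd h2.symm h1
      · rw [tmul_zero]
  conv_lhs => rw [← h1, map_sum, map_sum]
  rw [Finset.sum_congr rfl (fun d' _ => h4 d' p), Finset.sum_ite_eq' _ d, if_pos h2]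

theorem smul_TT (z : K) (p : TT K Λ a b h) : z • p = algebraMap K (TT K Λ a b h) z * p := Algebra.smul_def z p

theorem sub_of_isInv [Infinite K] {p : Poly K a b h} (hp : IsInv p) {k : Matrix (Fin b) (Fin b) K}
    {g : Matrix (Fin a) (Fin a) K} (hk : k.det = 1) (hg : g.det = 1) : sub k g p = p :=
  K496.KrRey.isInv_iff.1 hp k g hk hg

/-- substitution by `(v k, w g)` on a homogeneous polynomial -/
theorem sub_smul_smul (v w : K) (k : Matrix (Fin b) (Fin b) K) (g : Matrix (Fin a) (Fin a) K) {p : Poly K a b h} {d : ℕ}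
    (hp : p.IsHomogeneous d) : sub (v • k) (w • g) p = (v * w) ^ d • sub k g p := by
  have h1 : sub (v • k) (w • g) p = sub ((v * w) • (1 : Matrix (Fin b) (Fin b) K)) 1 (sub k g p) := by
    rw [K496.KrRey.sub_sub, Matrix.mul_smul, Matrix.mul_one, Matrix.one_mul]
    rw [sub_eq, sub_eq]
    congr 2
    funext l
    refine Matrix.ext fun i j => ?_
    simp only [act, Matrix.mul_apply, Matrix.map_apply, Matrix.smul_apply, smul_eq_mul, map_mul, Finset.sum_mul]
    refine Finset.sum_congr rfl fun x _ => Finset.sum_congr rfl fun y _ => ?_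
    ring
  rw [h1, sub_scalar _ (K496.KrRey.sub_isHomogeneous k g hp)]

theorem exists_root' [IsAlgClosed K] {n : ℕ} (k : Matrix (Fin n) (Fin n) K) (hk : k.det ≠ 0) :
    ∃ (v : K) (k' : Matrix (Fin n) (Fin n) K), v ≠ 0 ∧ k'.det = 1 ∧ k = v • k' := by
  rcases Nat.eq_zero_or_pos n with rfl | hn
  · exact ⟨1, k, one_ne_zero, Matrix.det_isEmpty, (one_smul _ _).symm⟩
  · obtain ⟨v, hv, hvk⟩ := KrSemi.exists_root hn hk
    refine ⟨v, v⁻¹ • k, hv, ?_, ?_⟩
    · rw [Matrix.det_smul, Fintype.card_fin, ← hvk, ← mul_pow, inv_mul_cancel₀ hv, one_pow]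
    · rw [smul_smul, mul_inv_cancel₀ hv, one_smul]

section Chart

variable {C : Type u} [CommRing C] [Algebra K C]

/-- The data of a chart. -/
structure ChartData (f : Fin (m + 1) → Poly K a b h) (θ : TT K Λ a b h →ₐ[K] C) (i : Fin (m + 1))
    (gam : Matrix (Fin b) (Fin b) K → Matrix (Fin a) (Fin a) K → C →+* C) : Prop where
  unit : IsUnit (θ (1 ⊗ₜ f i))
  frac : ∀ c, ∃ (n : ℕ) (p : TT K Λ a b h), c * θ (1 ⊗ₜ f i) ^ n = θ p
  act : ∀ (k : Matrix (Fin b) (Fin b) K) (g : Matrix (Fin a) (Fin a) K), k.det ≠ 0 → g.det ≠ 0 →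
    ∀ p, gam k g (θ p) = θ (subL Λ k g p)

/-- graph of the operator -/
def Rel (e : ℕ) (f : Fin (m + 1) → Poly K a b h) (ρ : Poly K a b h →ₗ[K] Poly K a b h) (θ : TT K Λ a b h →ₐ[K] C)
    (i : Fin (m + 1)) (c c' : C) : Prop :=
  ∃ (n : ℕ) (p : TT K Λ a b h), c * θ (1 ⊗ₜ f i) ^ n = θ p ∧ c' * θ (1 ⊗ₜ f i) ^ n = θ (Op ρ (n * e) p)

variable {θ : TT K Λ a b h →ₐ[K] C} {i : Fin (m + 1)}

theorem Rel.raise (P : Pack a b h m e f ρ) {c c' : C} {n : ℕ} {p : TT K Λ a b h}
    (h1 : c * θ (1 ⊗ₜ f i) ^ n = θ p) (h2 : c' * θ (1 ⊗ₜ f i) ^ n = θ (Op ρ (n * e) p)) (l : ℕ) :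
    c * θ (1 ⊗ₜ f i) ^ (n + l) = θ (p * (1 ⊗ₜ f i) ^ l) ∧
      c' * θ (1 ⊗ₜ f i) ^ (n + l) = θ (Op ρ ((n + l) * e) (p * (1 ⊗ₜ f i) ^ l)) := by
  constructor
  · rw [pow_add, ← mul_assoc, h1, map_mul, map_pow]
  · rw [pow_add, ← mul_assoc, h2, Op_mul_pow P, map_mul, map_pow]

theorem Rel.add (P : Pack a b h m e f ρ) {c c' d d' : C} (h1 : Rel e f ρ θ i c c') (h2 : Rel e f ρ θ i d d') :
    Rel e f ρ θ i (c + d) (c' + d') := by
  obtain ⟨n, p, h3, h4⟩ := h1
  obtain ⟨l, q, h5, h6⟩ := h2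
  obtain ⟨h7, h8⟩ := Rel.raise P h3 h4 l
  obtain ⟨h9, h10⟩ := Rel.raise P h5 h6 n
  rw [add_comm l n] at h9 h10
  refine ⟨n + l, p * (1 ⊗ₜ f i) ^ l + q * (1 ⊗ₜ f i) ^ n, ?_, ?_⟩
  · rw [add_mul, h7, h9, map_add]
  · rw [add_mul, h8, h10, map_add, map_add]

theorem Rel.neg (P : Pack a b h m e f ρ) {c c' : C} (h1 : Rel e f ρ θ i c c') : Rel e f ρ θ i (-c) (-c') := by
  obtain ⟨n, p, h3, h4⟩ := h1
  exact ⟨n, -p, by rw [neg_mul, h3, map_neg], by rw [neg_mul, h4, map_neg, map_neg]⟩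

variable {gam : Matrix (Fin b) (Fin b) K → Matrix (Fin a) (Fin a) K → C →+* C} (D : ChartData f θ i gam)

include D

theorem ChartData.exists_inv : ∃ u : C, u * θ (1 ⊗ₜ f i) = 1 := by
  obtain ⟨u, hu⟩ := D.unit
  exact ⟨↑u⁻¹, by rw [← hu, Units.inv_mul]⟩

theorem Rel.total (c : C) : ∃ c', Rel e f ρ θ i c c' := by
  obtain ⟨n, p, hp⟩ := D.frac c
  obtain ⟨u, hu⟩ := D.exists_inv
  exact ⟨θ (Op ρ (n * e) p) * u ^ n, n, p, hp, by rw [mul_assoc, ← mul_pow, hu, one_pow, mul_one]⟩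

/-- composition of the actions -/
theorem ChartData.gam_gam (P : Pack a b h m e f ρ) (k k' : Matrix (Fin b) (Fin b) K) (g g' : Matrix (Fin a) (Fin a) K)
    (hk : k.det ≠ 0)
    (hg : g.det ≠ 0) (hk' : k'.det ≠ 0) (hg' : g'.det ≠ 0) (c : C) :
    gam k g (gam k' g' c) = gam (k' * k) (g * g') c := by
  have hkk : (k' * k).det ≠ 0 := by rw [Matrix.det_mul]; exact mul_ne_zero hk' hk
  have hgg : (g * g').det ≠ 0 := by rw [Matrix.det_mul]; exact mul_ne_zero hg hg'
  have key : ∀ p, gam k g (gam k' g' (θ p)) = gam (k' * k) (g * g') (θ p) := by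
    intro p
    rw [D.act k' g' hk' hg', D.act k g hk hg, D.act _ _ hkk hgg, subL_subL]
  obtain ⟨n, p, hp⟩ := D.frac c
  have hu : IsUnit (gam (k' * k) (g * g') (θ (1 ⊗ₜ f i)) ^ n) := (D.unit.map _).pow n
  apply hu.mul_right_cancel
  rw [← map_pow, ← map_mul, hp, ← key p, ← hp, map_mul, map_mul, map_pow, map_pow, map_pow, key]

/-- `gam` is linear over `K` -/
theorem ChartData.gam_smul {k : Matrix (Fin b) (Fin b) K} {g : Matrix (Fin a) (Fin a) K} (hk : k.det ≠ 0)
    (hg : g.det ≠ 0) (z : K) (c : C) : gam k g (z • c) = z • gam k g c := by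
  have h1 : gam k g (algebraMap K C z) = algebraMap K C z := by
    have h2 : algebraMap K C z = θ (algebraMap K _ z) := (θ.commutes z).symm
    rw [h2, D.act k g hk hg, AlgHom.commutes]
  rw [Algebra.smul_def, Algebra.smul_def, map_mul, h1]

/-- `gam` on the denominator -/
theorem ChartData.gam_F [IsAlgClosed K] [CharZero K] (P : Pack a b h m e f ρ) {v w : K}
    {k : Matrix (Fin b) (Fin b) K} {g : Matrix (Fin a) (Fin a) K}
    (hk : k.det = 1) (hg : g.det = 1) (hv : (v • k).det ≠ 0) (hw : (w • g).det ≠ 0) :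
    gam (v • k) (w • g) (θ (1 ⊗ₜ f i)) = (v * w) ^ e • θ (1 ⊗ₜ f i) := by
  rw [D.act _ _ hv hw, subL_tmul, sub_smul_smul v w k g (P.hom i), sub_of_isInv (P.inv i) hk hg, tmul_smul, map_smul]

omit D in
/-- the subspace of `Λ ⊗ A` of a subspace of `C` and a denominator -/
noncomputable def NJ (θ : TT K Λ a b h →ₐ[K] C) (u : C) (N : Submodule K C) : Submodule K (TT K Λ a b h) :=
  N.comap ((LinearMap.mulRight K u).comp θ.toLinearMap)

omit D in
theorem mem_NJ {u : C} {N : Submodule K C} {p : TT K Λ a b h} : p ∈ NJ θ u N ↔ θ p * u ∈ N := Iff.rfl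

/-- stable subspaces of `C` -/
def Stab (gam : Matrix (Fin b) (Fin b) K → Matrix (Fin a) (Fin a) K → C →+* C) (N : Submodule K C) : Prop :=
  ∀ (k : Matrix (Fin b) (Fin b) K) (g : Matrix (Fin a) (Fin a) K), k.det ≠ 0 → g.det ≠ 0 → ∀ c ∈ N, gam k g c ∈ N

variable [IsAlgClosed K] [CharZero K]

theorem NJ_gam (P : Pack a b h m e f ρ) {u : C} (hu : u * θ (1 ⊗ₜ f i) = 1) (n : ℕ) {v w : K}
    {k : Matrix (Fin b) (Fin b) K} {g : Matrix (Fin a) (Fin a) K} (hv0 : v ≠ 0) (hw0 : w ≠ 0)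
    (hk : k.det = 1) (hg : g.det = 1) (p : TT K Λ a b h) :
    θ (subL Λ (v • k) (w • g) p) * u ^ n = (v * w) ^ (n * e) • gam (v • k) (w • g) (θ p * u ^ n) := by
  have hv : (v • k).det ≠ 0 := by rw [Matrix.det_smul, hk, mul_one]; exact pow_ne_zero _ hv0
  have hw : (w • g).det ≠ 0 := by rw [Matrix.det_smul, hg, mul_one]; exact pow_ne_zero _ hw0
  have h1 : gam (v • k) (w • g) u * ((v * w) ^ e • θ (1 ⊗ₜ f i)) = 1 := by
    rw [← D.gam_F P hk hg hv hw, ← map_mul, hu, map_one]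
  have h2 : (v * w) ^ e • gam (v • k) (w • g) u = u := by
    have h3 : ((v * w) ^ e • gam (v • k) (w • g) u) * θ (1 ⊗ₜ f i) = 1 := by
      rw [smul_mul_assoc, ← mul_smul_comm, h1]
    exact D.unit.mul_right_cancel (h3.trans hu.symm)
  rw [map_mul, D.act _ _ hv hw, map_pow, ← mul_smul_comm, mul_comm n e, pow_mul, ← smul_pow, h2]

theorem NJ_stab (P : Pack a b h m e f ρ) {u : C} (hu : u * θ (1 ⊗ₜ f i) = 1) (n : ℕ) {N : Submodule K C}
    (hN : Stab gam N) : StabSc Λ (NJ θ (u ^ n) N) ∧ StabSL Λ (NJ θ (u ^ n) N) := by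
  have key : ∀ (v w : K) (k : Matrix (Fin b) (Fin b) K) (g : Matrix (Fin a) (Fin a) K), v ≠ 0 → w ≠ 0 → k.det = 1 →
      g.det = 1 → ∀ p ∈ NJ θ (u ^ n) N, subL Λ (v • k) (w • g) p ∈ NJ θ (u ^ n) N := by
    intro v w k g hv0 hw0 hk hg p hp
    have hv : (v • k).det ≠ 0 := by rw [Matrix.det_smul, hk, mul_one]; exact pow_ne_zero _ hv0
    have hw : (w • g).det ≠ 0 := by rw [Matrix.det_smul, hg, mul_one]; exact pow_ne_zero _ hw0
    rw [mem_NJ, NJ_gam D P hu n hv0 hw0 hk hg]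
    exact N.smul_mem _ (hN _ _ hv hw _ hp)
  constructor
  · intro v hv p hp
    have := key v 1 1 1 hv one_ne_zero Matrix.det_one Matrix.det_one p hp
    rwa [one_smul] at this
  · intro k g hk hg p hp
    have := key 1 1 k g one_ne_zero one_ne_zero hk hg p hp
    rwa [one_smul, one_smul] at this

theorem Rel.mem (P : Pack a b h m e f ρ) {N : Submodule K C} (hN : Stab gam N) {c c' : C}
    (h1 : Rel e f ρ θ i c c') (hc : c ∈ N) : c' ∈ N := by
  obtain ⟨n, p, h3, h4⟩ := h1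
  obtain ⟨u, hu⟩ := D.exists_inv
  have hun : θ (1 ⊗ₜ f i) ^ n * u ^ n = 1 := by rw [← mul_pow, mul_comm, hu, one_pow]
  have h5 : p ∈ NJ θ (u ^ n) N := by
    rw [mem_NJ, ← h3, mul_assoc, hun, mul_one]
    exact hc
  obtain ⟨h6, h7⟩ := NJ_stab D P hu n hN
  have h8 := Op_mem_of_stab P h6 h7 h5 (n * e)
  rw [mem_NJ, ← h4, mul_assoc, hun, mul_one] at h8
  exact h8

theorem stab_bot : Stab gam (⊥ : Submodule K C) := by
  intro k g _ _ c hc
  rw [Submodule.mem_bot] at hc ⊢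
  rw [hc, map_zero]

theorem Rel.unique (P : Pack a b h m e f ρ) {c c' c'' : C} (h1 : Rel e f ρ θ i c c') (h2 : Rel e f ρ θ i c c'') :
    c' = c'' := by
  have h3 := Rel.add P h1 (Rel.neg P h2)
  have h4 := Rel.mem D P (N := ⊥) (stab_bot D) h3 (by rw [add_neg_cancel]; exact Submodule.zero_mem _)
  rwa [Submodule.mem_bot, ← sub_eq_add_neg, sub_eq_zero] at h4

/-- the operator fixes invariants modulo stable subspaces -/
theorem Rel.fix (P : Pack a b h m e f ρ) {N : Submodule K C} (hN : Stab gam N) {c c' : C}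
    (h1 : Rel e f ρ θ i c c')
    (hc : ∀ (k : Matrix (Fin b) (Fin b) K) (g : Matrix (Fin a) (Fin a) K), k.det ≠ 0 →
    g.det ≠ 0 → gam k g c - c ∈ N) : c' - c ∈ N := by
  obtain ⟨n, p, h3, h4⟩ := h1
  obtain ⟨u, hu⟩ := D.exists_inv
  have hun : θ (1 ⊗ₜ f i) ^ n * u ^ n = 1 := by rw [← mul_pow, mul_comm, hu, one_pow]
  have hcu : θ p * u ^ n = c := by rw [← h3, mul_assoc, hun, mul_one]
  have hcu' : θ (Op ρ (n * e) p) * u ^ n = c' := by rw [← h4, mul_assoc, hun, mul_one]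
  obtain ⟨hsc, hsl⟩ := NJ_stab D P hu n hN
  -- scalars
  have h5 : subL Λ ((2 : K) • 1) 1 p - (2 : K) ^ (n * e) • p ∈ NJ θ (u ^ n) N := by
    have h6 := NJ_gam D P hu n (v := 2) (w := 1) two_ne_zero one_ne_zero (k := 1) (g := 1) Matrix.det_one Matrix.det_one p
    rw [one_smul, mul_one, hcu] at h6
    rw [mem_NJ, map_sub, map_smul, sub_mul, smul_mul_assoc, h6, hcu, ← smul_sub]
    refine N.smul_mem _ (hc _ _ ?_ ?_)
    · rw [Matrix.det_smul, Matrix.det_one, mul_one]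
      exact pow_ne_zero _ two_ne_zero
    · rw [Matrix.det_one]; exact one_ne_zero
  -- components of degree different from `n e`
  have h11 : ∀ d, d ≠ n * e → cp Λ d p ∈ NJ θ (u ^ n) N := by
    intro d hd
    have h12 := cp_mem hsc h5 d
    have h13 : cp Λ d (subL Λ ((2 : K) • 1) 1 p - (2 : K) ^ (n * e) • p) =
        ((2 : K) ^ d - (2 : K) ^ (n * e)) • cp Λ d p := by
      rw [map_sub, cp_subL_scalar, map_smul]
      exact (sub_smul ((2 : K) ^ d) ((2 : K) ^ (n * e)) (cp Λ d p)).symm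
    rw [h13] at h12
    have hne : (2 : K) ^ d - (2 : K) ^ (n * e) ≠ 0 := by
      rw [sub_ne_zero]
      exact fun heq => hd (pow_two_inj heq)
    have h15 := (NJ θ (u ^ n) N).smul_mem ((2 : K) ^ d - (2 : K) ^ (n * e))⁻¹ h12
    rwa [smul_smul, inv_mul_cancel₀ hne, one_smul] at h15
  have h16 : p - cp Λ (n * e) p ∈ NJ θ (u ^ n) N := by
    obtain ⟨D0, hD⟩ := sum_cp Λ p
    have h17 := hD (max D0 (n * e + 1)) (le_max_left _ _)
    have h18 : n * e ∈ Finset.range (max D0 (n * e + 1)) :=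
      Finset.mem_range.2 (lt_of_lt_of_le (Nat.lt_succ_self _) (le_max_right _ _))
    rw [← Finset.add_sum_erase _ _ h18] at h17
    have h19 : p - cp Λ (n * e) p = ∑ d ∈ (Finset.range (max D0 (n * e + 1))).erase (n * e), cp Λ d p := by
      rw [sub_eq_iff_eq_add, add_comm]
      exact h17.symm
    rw [h19]
    exact Submodule.sum_mem _ fun d hd => h11 d (Finset.ne_of_mem_erase hd)
  -- `SL`-invariance modulo `N`
  have h20 : ∀ (k : Matrix (Fin b) (Fin b) K) (g : Matrix (Fin a) (Fin a) K), k.det = 1 → g.det = 1 →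
      subL Λ k g p - p ∈ NJ θ (u ^ n) N := by
    intro k g hk hg
    have h6 := NJ_gam D P hu n (v := 1) (w := 1) one_ne_zero one_ne_zero hk hg p
    rw [one_smul, one_smul, mul_one, one_pow, one_smul, hcu] at h6
    rw [mem_NJ, map_sub, sub_mul, h6, hcu]
    exact hc k g (by rw [hk]; exact one_ne_zero) (by rw [hg]; exact one_ne_zero)
  have h21 : ∀ (k : Matrix (Fin b) (Fin b) K) (g : Matrix (Fin a) (Fin a) K), k.det = 1 → g.det = 1 →
      subL Λ k g (cp Λ (n * e) p) - cp Λ (n * e) p ∈ NJ θ (u ^ n) N := by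
    intro k g hk hg
    have h22 := (NJ θ (u ^ n) N).add_mem ((NJ θ (u ^ n) N).sub_mem (h20 k g hk hg) (hsl k g hk hg _ h16)) h16
    convert h22 using 1
    rw [map_sub]
    abel
  have h23 : (ρ.lTensor Λ) (cp Λ (n * e) p) - cp Λ (n * e) p ∈ NJ θ (u ^ n) N := reynolds_mem P hsl h21
  have h24 : Op ρ (n * e) p - p ∈ NJ θ (u ^ n) N := by
    have h25 := (NJ θ (u ^ n) N).sub_mem h23 h16
    convert h25 using 1
    change (ρ.lTensor Λ) (cp Λ (n * e) p) - p = _
    abel
  rw [mem_NJ, map_sub, sub_mul, hcu, hcu'] at h24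
  exact h24

/-- invariance of the operator -/
theorem Rel.inv (P : Pack a b h m e f ρ) {c c' : C} (h1 : Rel e f ρ θ i c c') {k : Matrix (Fin b) (Fin b) K}
    {g : Matrix (Fin a) (Fin a) K} (hk : k.det ≠ 0) (hg : g.det ≠ 0) : Rel e f ρ θ i (gam k g c) c' := by
  obtain ⟨n, p, h3, h4⟩ := h1
  obtain ⟨v, k', hv, hk', rfl⟩ := exists_root' k hk
  obtain ⟨w, g', hw, hg', rfl⟩ := exists_root' g hg
  have hvw : (v * w) ^ (n * e) ≠ 0 := pow_ne_zero _ (mul_ne_zero hv hw)
  have h5 : gam (v • k') (w • g') c * ((v * w) ^ e • θ (1 ⊗ₜ f i)) ^ n = θ (subL Λ (v • k') (w • g') p) := by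
    rw [← D.gam_F P hk' hg' hk hg, ← map_pow, ← map_mul, h3, D.act _ _ hk hg]
  have h6 : Op ρ (n * e) (subL Λ (v • k') (w • g') p) = (v * w) ^ (n * e) • Op ρ (n * e) p := by
    rw [Op, LinearMap.comp_apply, LinearMap.comp_apply, cp_subL]
    generalize hq : p = q
    clear h3 h4 h5 hq
    induction q using TensorProduct.induction_on with
    | zero => simp only [map_zero, smul_zero]
    | add x y hx hy => simp only [map_add, hx, hy, smul_add]
    | tmul l q =>
      rw [cp_tmul, subL_tmul, sub_smul_smul v w k' g' (homogeneousComponent_isHomogeneous (n * e) q), tmul_smul, map_smul,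
        LinearMap.lTensor_tmul, LinearMap.lTensor_tmul, KrRho.rho_sub P hk' hg']
  refine ⟨n, ((v * w) ^ (n * e))⁻¹ • subL Λ (v • k') (w • g') p, ?_, ?_⟩
  · rw [smul_pow, mul_smul_comm, ← pow_mul, mul_comm e n] at h5
    rw [map_smul, ← h5, smul_smul, inv_mul_cancel₀ hvw, one_smul]
  · rw [map_smul, h6, smul_smul, inv_mul_cancel₀ hvw, one_smul, h4]

end Chart

end K739.KrOp
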