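import Groth.Agent.Coherent.K739.KrOp

/-!
# Kronecker modules: the Reynolds operator on the charts (existence)

`exists_op`: the operator `ρC` with its four properties; the last one is uniform in finite families: `ρC c - c` is a
combination with coefficients in `K` of `γ c - c`, the same combination for all members of a finite family.
-/

set_option autoImplicit false
set_option linter.unusedVariables false
set_option linter.unusedSectionVars false
set_option backward.isDefEq.respectTransparency false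
set_option backward.isDefEq.respectTransparency.types false

universe u

open MvPolynomial K585.KronK TensorProduct K739.KrAlg

namespace K739.KrOp

variable {K : Type u} [Field K] {a b h : ℕ} {Λ : Type u} [CommRing Λ] [Algebra K Λ]
variable {m e : ℕ} {f : Fin (m + 1) → Poly K a b h} {ρ : Poly K a b h →ₗ[K] Poly K a b h}
variable {C : Type u} [CommRing C] [Algebra K C] {θ : TT K Λ a b h →ₐ[K] C} {i : Fin (m + 1)}

/-- values of polynomials in the `f j` -/
theorem theta_aeval (r : Fin (m + 1) → C) (hr1 : ∀ j, r j * θ (1 ⊗ₜ f i) = θ (1 ⊗ₜ f j))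
    (Q : MvPolynomial (Fin (m + 1)) K) :
    θ (1 ⊗ₜ aeval f Q) = eval₂ (algebraMap K C) (fun j => r j * θ (1 ⊗ₜ f i)) Q := by
  have h1 : (θ.comp (Algebra.TensorProduct.includeRight : Poly K a b h →ₐ[K] TT K Λ a b h)).comp (aeval f) =
      aeval (fun j => r j * θ (1 ⊗ₜ f i)) := by
    apply MvPolynomial.algHom_ext
    intro j
    rw [aeval_X, hr1, AlgHom.comp_apply, aeval_X]
    rfl
  have h2 := congr($h1 Q)
  rw [aeval_def (fun j => r j * θ (1 ⊗ₜ f i))] at h2
  exact h2

theorem Rel.range (P : Pack a b h m e f ρ) (hF : IsUnit (θ (1 ⊗ₜ f i))) (B0 : Subring C)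
    (hΛ : ∀ l : Λ, θ (l ⊗ₜ 1) ∈ B0)
    (hr : ∀ j, ∃ r ∈ B0, r * θ (1 ⊗ₜ f i) = θ (1 ⊗ₜ f j)) {c c' : C} (h1 : Rel e f ρ θ i c c') : c' ∈ B0 := by
  obtain ⟨n, p, h3, h4⟩ := h1
  choose r hr0 hr1 using hr
  have hc0 : ∀ z, algebraMap K C z ∈ B0 := by
    intro z
    have h5 : (algebraMap K (TT K Λ a b h) z) = (algebraMap K Λ z) ⊗ₜ 1 := by
      rw [Algebra.TensorProduct.algebraMap_apply]
    rw [← θ.commutes z, h5]
    exact hΛ _
  have key2 : ∀ q ∈ IH K Λ a b h (n * e), ∃ b ∈ B0, θ q = b * θ (1 ⊗ₜ f i) ^ n := by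
    intro q hq
    induction hq using Submodule.span_induction with
    | zero => exact ⟨0, B0.zero_mem, by rw [map_zero, zero_mul]⟩
    | add q q' _ _ h1 h2 =>
      obtain ⟨b1, hb1, h1⟩ := h1
      obtain ⟨b2, hb2, h2⟩ := h2
      exact ⟨b1 + b2, B0.add_mem hb1 hb2, by rw [map_add, h1, h2, add_mul]⟩
    | smul z q _ h1 =>
      obtain ⟨b1, hb1, h1⟩ := h1
      refine ⟨algebraMap K C z * b1, B0.mul_mem (hc0 z) hb1, ?_⟩
      rw [smul_TT, map_mul, h1, mul_assoc, AlgHom.commutes]
    | mem q hq =>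
      obtain ⟨l, u, hu, hud, rfl⟩ := hq
      obtain ⟨Q, hQ, rfl⟩ := P.gen n u hud hu
      have h7 : (l ⊗ₜ[K] (aeval f Q) : TT K Λ a b h) = (l ⊗ₜ 1) * (1 ⊗ₜ aeval f Q) := by
        rw [Algebra.TensorProduct.tmul_mul_tmul, mul_one, one_mul]
      have h8 : eval₂ (algebraMap K C) (fun j => r j * θ (1 ⊗ₜ f i)) Q =
          θ (1 ⊗ₜ f i) ^ n * eval₂ (algebraMap K C) r Q := by
        rw [eval₂_eq', eval₂_eq', Finset.mul_sum]
        apply Finset.sum_congr rfl
        intro d hd
        have h9 : ∑ i, d i = n := by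
          rw [hQ.degree_eq_sum_deg_support hd]
          exact (Finset.sum_subset (Finset.subset_univ _) (by
            intro i _ hi
            simpa using hi)).symm
        simp only [mul_pow, Finset.prod_mul_distrib]
        rw [Finset.prod_pow_eq_pow_sum, h9]
        ring
      refine ⟨θ (l ⊗ₜ 1) * eval₂ (algebraMap K C) r Q, B0.mul_mem (hΛ l) ?_, ?_⟩
      · rw [eval₂_eq']
        exact B0.sum_mem fun d _ => B0.mul_mem (hc0 _) (B0.prod_mem fun j _ => B0.pow_mem (hr0 j) _)
      · rw [h7, map_mul, theta_aeval r hr1, h8]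
        ring
  obtain ⟨b1, hb1, hb⟩ := key2 _ (Op_mem P (n * e) p)
  have h10 : c' = b1 := (hF.pow n).mul_right_cancel (h4.trans hb)
  rw [h10]
  exact hb1

section Prod

variable {ι : Type u}

variable (K Λ a b h) in
/-- evaluation of the coefficients at `t` -/
noncomputable def ev (t : ι) : TT K (ι → Λ) a b h →ₐ[K] TT K Λ a b h :=
  Algebra.TensorProduct.map (Pi.evalAlgHom K (fun _ : ι => Λ) t) (AlgHom.id K (Poly K a b h))

theorem ev_tmul (t : ι) (l : ι → Λ) (p : Poly K a b h) : ev K a b h Λ t (l ⊗ₜ[K] p) = l t ⊗ₜ p := rfl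

/-- the product chart -/
noncomputable def thP (θ : TT K Λ a b h →ₐ[K] C) : TT K (ι → Λ) a b h →ₐ[K] (ι → C) :=
  AlgHom.pi (fun t => θ.comp (ev K a b h Λ t))

theorem thP_apply (θ : TT K Λ a b h →ₐ[K] C) (p : TT K (ι → Λ) a b h) (t : ι) : thP θ p t = θ (ev K a b h Λ t p) := rfl

theorem thP_one (θ : TT K Λ a b h →ₐ[K] C) (p : Poly K a b h) (t : ι) :
    thP θ ((1 : ι → Λ) ⊗ₜ[K] p) t = θ (1 ⊗ₜ p) := rfl

/-- the product action -/
def gaP (gam : Matrix (Fin b) (Fin b) K → Matrix (Fin a) (Fin a) K → C →+* C) :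
    Matrix (Fin b) (Fin b) K → Matrix (Fin a) (Fin a) K → (ι → C) →+* (ι → C) :=
  fun k g => RingHom.pi (fun t => (gam k g).comp (Pi.evalRingHom (fun _ : ι => C) t))

theorem gaP_apply (gam : Matrix (Fin b) (Fin b) K → Matrix (Fin a) (Fin a) K → C →+* C)
    (k : Matrix (Fin b) (Fin b) K) (g : Matrix (Fin a) (Fin a) K) (c : ι → C) (t : ι) :
    gaP gam k g c t = gam k g (c t) := rfl

theorem ev_subL (t : ι) (k : Matrix (Fin b) (Fin b) K) (g : Matrix (Fin a) (Fin a) K) (p : TT K (ι → Λ) a b h) :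
    ev K a b h Λ t (subL (ι → Λ) k g p) = subL Λ k g (ev K a b h Λ t p) := by
  induction p using TensorProduct.induction_on with
  | zero => rw [map_zero, map_zero, map_zero]
  | add x y hx hy => rw [map_add, map_add, map_add, map_add, hx, hy]
  | tmul l p => rw [subL_tmul, ev_tmul, ev_tmul, subL_tmul]

theorem ev_Op (t : ι) (d : ℕ) (p : TT K (ι → Λ) a b h) : ev K a b h Λ t (Op ρ d p) = Op ρ d (ev K a b h Λ t p) := by
  induction p using TensorProduct.induction_on with
  | zero => rw [map_zero, map_zero, map_zero]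
  | add x y hx hy => rw [map_add, map_add, map_add, map_add, hx, hy]
  | tmul l p => rw [Op_tmul, ev_tmul, ev_tmul, Op_tmul]

open Classical in
theorem ev_single (s t : ι) (p : TT K Λ a b h) :
    ev K a b h Λ s ((LinearMap.single K (fun _ : ι => Λ) t).rTensor (Poly K a b h) p) = if s = t then p else 0 := by
  induction p using TensorProduct.induction_on with
  | zero => simp
  | add x y hx hy =>
    rw [map_add, map_add, hx, hy]
    split_ifs
    · rfl
    · rw [add_zero]
  | tmul l p =>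
    rw [LinearMap.rTensor_tmul, ev_tmul, LinearMap.single_apply]
    split_ifs with h1
    · subst h1
      rw [Pi.single_eq_same]
    · rw [Pi.single_eq_of_ne h1, zero_tmul]

variable [Finite ι]

theorem exists_ev (p : ι → TT K Λ a b h) : ∃ q : TT K (ι → Λ) a b h, ∀ t, ev K a b h Λ t q = p t := by
  classical
  have := Fintype.ofFinite ι
  refine ⟨∑ t, (LinearMap.single K (fun _ : ι => Λ) t).rTensor (Poly K a b h) (p t), fun s => ?_⟩
  rw [map_sum]
  simp only [ev_single]
  rw [Finset.sum_ite_eq Finset.univ s, if_pos (Finset.mem_univ _)]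

variable {gam : Matrix (Fin b) (Fin b) K → Matrix (Fin a) (Fin a) K → C →+* C} (D : ChartData f θ i gam)

include D in
theorem ChartData.prod : ChartData (Λ := ι → Λ) f (thP θ) i (gaP gam) where
  unit := by
    obtain ⟨u, hu⟩ := D.exists_inv
    refine IsUnit.of_mul_eq_one (fun _ => u) ?_
    funext t
    rw [Pi.mul_apply, thP_one, mul_comm, hu, Pi.one_apply]
  frac c := by
    have := Fintype.ofFinite ι
    choose n p hp using fun t => D.frac (c t)
    obtain ⟨q, hq⟩ := exists_ev (fun t => p t * (1 ⊗ₜ f i) ^ ((Finset.univ.sup n) - n t))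
    refine ⟨Finset.univ.sup n, q, ?_⟩
    funext t
    rw [Pi.mul_apply, Pi.pow_apply, thP_one, thP_apply, hq, map_mul, ← hp, map_pow, mul_assoc, ← pow_add,
      Nat.add_sub_cancel' (Finset.le_sup (f := n) (Finset.mem_univ t))]
  act k g hk hg p := by
    funext t
    rw [gaP_apply, thP_apply, thP_apply, D.act k g hk hg, ev_subL]

omit [Finite ι] in
theorem Rel.proj {c c' : ι → C} (h1 : Rel (Λ := ι → Λ) e f ρ (thP θ) i c c') (t : ι) : Rel e f ρ θ i (c t) (c' t) := by
  obtain ⟨n, p, h3, h4⟩ := h1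
  refine ⟨n, ev K a b h Λ t p, ?_, ?_⟩
  · have := congrFun h3 t
    rwa [Pi.mul_apply, Pi.pow_apply, thP_one, thP_apply] at this
  · have := congrFun h4 t
    rwa [Pi.mul_apply, Pi.pow_apply, thP_one, thP_apply, ev_Op] at this

end Prod

/-- the span of the differences is stable -/
theorem stab_span {gam : Matrix (Fin b) (Fin b) K → Matrix (Fin a) (Fin a) K → C →+* C} (D : ChartData f θ i gam)
    (P : Pack a b h m e f ρ) (c : C) :
    Stab gam (Submodule.span K {x | ∃ (k : Matrix (Fin b) (Fin b) K) (g : Matrix (Fin a) (Fin a) K),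
      k.det ≠ 0 ∧ g.det ≠ 0 ∧ x = gam k g c - c}) := by
  intro k g hk hg x hx
  induction hx using Submodule.span_induction with
  | zero => rw [map_zero]; exact Submodule.zero_mem _
  | add x y _ _ hx hy => rw [map_add]; exact Submodule.add_mem _ hx hy
  | smul z x _ hx => rw [D.gam_smul hk hg]; exact Submodule.smul_mem _ z hx
  | mem x hx =>
    obtain ⟨k', g', hk', hg', rfl⟩ := hx
    have h1 : gam k g (gam k' g' c - c) = (gam (k' * k) (g * g') c - c) - (gam k g c - c) := by
      rw [map_sub, D.gam_gam P k k' g g' hk hg hk' hg']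
      abel
    rw [h1]
    refine Submodule.sub_mem _ (Submodule.subset_span ⟨_, _, ?_, ?_, rfl⟩) (Submodule.subset_span ⟨k, g, hk, hg, rfl⟩)
    · rw [Matrix.det_mul]; exact mul_ne_zero hk' hk
    · rw [Matrix.det_mul]; exact mul_ne_zero hg hg'

/-- **The Reynolds operator on the charts.** -/
theorem exists_op [IsAlgClosed K] [CharZero K] (P : Pack a b h m e f ρ)
    {gam : Matrix (Fin b) (Fin b) K → Matrix (Fin a) (Fin a) K → C →+* C} (D : ChartData f θ i gam) :
    ∃ ρC : C → C, (∀ c d, ρC (c + d) = ρC c + ρC d) ∧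
      (∀ (B0 : Subring C), (∀ l : Λ, θ (l ⊗ₜ 1) ∈ B0) → (∀ j, ∃ r ∈ B0, r * θ (1 ⊗ₜ f i) = θ (1 ⊗ₜ f j)) →
        ∀ c, ρC c ∈ B0) ∧
      (∀ s, (∀ (k : Matrix (Fin b) (Fin b) K) (g : Matrix (Fin a) (Fin a) K), k.det ≠ 0 → g.det ≠ 0 →
        gam k g s = s) → ∀ c, ρC (s * c) = s * ρC c) ∧
      (∀ (k : Matrix (Fin b) (Fin b) K) (g : Matrix (Fin a) (Fin a) K), k.det ≠ 0 → g.det ≠ 0 →
        ∀ c, ρC (gam k g c) = ρC c) ∧
      (∀ (ι : Type u) [Finite ι] (c : ι → C), (fun t => ρC (c t) - c t) ∈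
        Submodule.span K {x : ι → C | ∃ (k : Matrix (Fin b) (Fin b) K) (g : Matrix (Fin a) (Fin a) K),
          k.det ≠ 0 ∧ g.det ≠ 0 ∧ x = fun t => gam k g (c t) - c t}) := by
  have htot := Rel.total (ρ := ρ) (e := e) D
  choose ρC hρC using htot
  have huniq : ∀ {c c'}, Rel e f ρ θ i c c' → ρC c = c' := fun h1 => Rel.unique D P (hρC _) h1
  refine ⟨ρC, fun c d => huniq (Rel.add P (hρC c) (hρC d)), fun B0 hΛ hr c => Rel.range P D.unit B0 hΛ hr (hρC c), ?_,
    fun k g hk hg c => huniq (c' := ρC c) ?_ , fun ι _ c => ?_⟩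
  · intro s hs c
    have h1 : ρC s = s := by
      have h2 := Rel.fix D P (N := ⊥) (stab_bot D) (hρC s) (by
        intro k g hk hg
        rw [hs k g hk hg, sub_self]
        exact Submodule.zero_mem _)
      rwa [Submodule.mem_bot, sub_eq_zero] at h2
    obtain ⟨n, p, h3, h4⟩ := hρC s
    rw [h1] at h4
    obtain ⟨l, q, h5, h6⟩ := hρC c
    apply huniq
    refine ⟨l + n, q * Op ρ (n * e) p, ?_, ?_⟩
    · rw [map_mul, ← h4, ← h5, pow_add]
      ring
    · rw [add_mul, Op_mul P _ _ _ _ (Op_mem P (n * e) p), map_mul, ← h4, ← h6, pow_add]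
      ring
  · exact (Rel.inv D P (hρC c) hk hg)
  · have D' : ChartData (Λ := ι → Λ) f (thP θ) i (gaP gam) := D.prod
    obtain ⟨c', hc'⟩ := Rel.total (ρ := ρ) (e := e) D' c
    have h1 : c' = fun t => ρC (c t) := by
      funext t
      exact (huniq (Rel.proj hc' t)).symm
    rw [h1] at hc'
    have h2 := Rel.fix D' P (stab_span D' P c) hc'
      (fun k g hk hg => Submodule.subset_span ⟨k, g, hk, hg, rfl⟩)
    exact h2

end K739.KrOp
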