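import Groth.Agent.Coherent.K739.KrAlg
import Groth.Agent.Coherent.K496.KrRey

/-!
# Kronecker modules: the Reynolds operator of a pack is canonical

`K739.KrRho.rho_sub`: `ρ (p (k · g)) = ρ p` for `k, g` of determinant one.
-/

set_option autoImplicit false
set_option linter.unusedVariables false
set_option linter.unusedSectionVars false



universe u

open MvPolynomial K585.KronK TensorProduct K496.KrRey Groth.Agent.Sga3B.RG K497.Rat

namespace K739.KrRho

variable {K : Type u} [Field K] [IsAlgClosed K] [CharZero K] {a b h : ℕ}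

/-- a linear map which is invariant for the action on the argument and fixes invariants -/
theorem exists_right (K : Type u) [Field K] [IsAlgClosed K] [CharZero K] (a b h : ℕ) :
    ∃ σ : Poly K a b h →ₗ[K] Poly K a b h, (∀ p, IsInv p → σ p = p) ∧
      ∀ (k : Matrix (Fin b) (Fin b) K) (g : Matrix (Fin a) (Fin a) K), k.det = 1 → g.det = 1 →
        ∀ p, σ (sub k g p) = σ p := by
  obtain ⟨β, hβ, hβ1⟩ := K191.Reductive.exists_isInt (Groth.Agent.S12559.result K a)
  obtain ⟨γ, hγ, hγ1⟩ := K191.LInt.exists_isLInt (Groth.Agent.S12559.result K b)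
  refine ⟨rb γ ∘ₗ ra β, fun p hp => rey_eq hβ1 hγ1 hp, ?_⟩
  have hra : ∀ (g₀ : Matrix (Fin a) (Fin a) K), g₀.det = 1 → ∀ p : Poly K a b h, ra β (sub 1 g₀ p) = ra β p := by
    intro g₀ hg₀ p
    obtain ⟨g₀, rfl⟩ := exists_mt hg₀
    rw [ra_apply, ra_apply]
    have h2 : ∀ g : Pt K (CoordGrp.SLn a K), sub (1 : Matrix (Fin b) (Fin b) K) (mt g) (sub 1 (mt g₀) p) =
        sub 1 (mt (g * g₀)) p := by
      intro g
      rw [K496.KrRey.sub_sub, Matrix.one_mul, mt_mul]
    have h3 : K497.Rat.IsPol (fun g : Pt K (CoordGrp.SLn a K) => sub (1 : Matrix (Fin b) (Fin b) K) (mt (g * g₀)) p) :=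
      (isPol_a (sub 1 (mt g₀) p)).congr fun g => (h2 g).symm
    rw [avg_congr β _ h3 h2]
    exact avg_right (rTr_inv_of_isInt hβ) (isPol_a p) g₀ h3
  have hrb : ∀ (k₀ : Matrix (Fin b) (Fin b) K), k₀.det = 1 → ∀ p : Poly K a b h, rb γ (sub k₀ 1 p) = rb γ p := by
    intro k₀ hk₀ p
    obtain ⟨k₀, rfl⟩ := exists_mt hk₀
    rw [rb_apply, rb_apply]
    have h2 : ∀ k : Pt K (CoordGrp.SLn b K), sub (mt k) (1 : Matrix (Fin a) (Fin a) K) (sub (mt k₀) 1 p) =
        sub (mt (k₀ * k)) 1 p := by
      intro k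
      rw [K496.KrRey.sub_sub, Matrix.one_mul, mt_mul]
    have h3 : K497.Rat.IsPol (fun k : Pt K (CoordGrp.SLn b K) => sub (mt (k₀ * k)) (1 : Matrix (Fin a) (Fin a) K) p) :=
      (isPol_b (sub (mt k₀) 1 p)).congr fun k => (h2 k).symm
    rw [avg_congr γ _ h3 h2]
    exact avg_left (lTr_inv_of_isLInt hγ) (isPol_b p) k₀ h3
  intro k g hk hg p
  rw [LinearMap.comp_apply, LinearMap.comp_apply, sub_eq_comp k g p]
  have hcomm : ∀ q : Poly K a b h, ra β (sub k 1 q) = sub k 1 (ra β q) := by
    intro q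
    have h1 := map_avg β (isPol_a q) (sub k (1 : Matrix (Fin a) (Fin a) K)).toLinearMap
    rw [AlgHom.toLinearMap_apply] at h1
    rw [ra_apply, ra_apply, h1]
    refine avg_congr β _ _ fun g' => ?_
    rw [AlgHom.toLinearMap_apply, K496.KrRey.sub_sub, K496.KrRey.sub_sub, Matrix.one_mul, Matrix.mul_one, Matrix.mul_one, Matrix.one_mul]
  rw [hcomm, hrb k hk, hra g hg]

variable {m e : ℕ} {f : Fin (m + 1) → Poly K a b h} {ρ : Poly K a b h →ₗ[K] Poly K a b h}

/-- `ρ p - p` is a combination of the `p (k · g) - p` -/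
theorem rho_sub_mem (P : Pack a b h m e f ρ) (p : Poly K a b h) :
    ρ p - p ∈ Submodule.span K {x | ∃ (k : Matrix (Fin b) (Fin b) K) (g : Matrix (Fin a) (Fin a) K), k.det = 1 ∧
      g.det = 1 ∧ x = sub k g p - p} := by
  set S : Set (Poly K a b h) := {x | ∃ (k : Matrix (Fin b) (Fin b) K) (g : Matrix (Fin a) (Fin a) K), k.det = 1 ∧
      g.det = 1 ∧ x = sub k g p - p} with hS
  let inc : Poly K a b h →ₗ[K] TensorProduct K K (Poly K a b h) := (TensorProduct.lid K (Poly K a b h)).symm.toLinearMap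
  let pr : TensorProduct K K (Poly K a b h) →ₗ[K] Poly K a b h := (TensorProduct.lid K (Poly K a b h)).toLinearMap
  have hpr : ∀ (F : Poly K a b h →ₗ[K] Poly K a b h) x, pr (F.lTensor K x) = F (pr x) := by
    intro F x
    induction x using TensorProduct.induction_on with
    | zero => simp only [map_zero]
    | add x y hx hy => simp only [map_add, hx, hy]
    | tmul l q => change l • F q = F (l • q); rw [map_smul]
  let N : Submodule K (TensorProduct K K (Poly K a b h)) := (Submodule.span K S).comap pr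
  have hpi : pr (inc p) = p := LinearEquiv.apply_symm_apply _ _
  have h1 := KrAlg.reynolds_mem P (Λ := K) (N := N) (p := inc p) (by
    intro k g hk hg q hq
    change pr (KrAlg.subL K k g q) ∈ Submodule.span K S
    rw [KrAlg.subL_eq, hpr]
    have hq' : pr q ∈ Submodule.span K S := hq
    generalize pr q = y at hq'
    induction hq' using Submodule.span_induction with
    | zero => rw [map_zero]; exact Submodule.zero_mem _
    | add x y _ _ hx hy => rw [map_add]; exact Submodule.add_mem _ hx hy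
    | smul z x _ hx => rw [map_smul]; exact Submodule.smul_mem _ z hx
    | mem x hx =>
      obtain ⟨k', g', hk', hg', rfl⟩ := hx
      have h2 : (sub k g).toLinearMap (sub k' g' p - p) = (sub (k' * k) (g * g') p - p) - (sub k g p - p) := by
        rw [AlgHom.toLinearMap_apply, map_sub, K496.KrRey.sub_sub]
        abel
      rw [h2]
      refine Submodule.sub_mem _ (Submodule.subset_span ⟨_, _, ?_, ?_, rfl⟩) (Submodule.subset_span ⟨k, g, hk, hg, rfl⟩)
      · rw [Matrix.det_mul, hk, hk', one_mul]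
      · rw [Matrix.det_mul, hg, hg', one_mul]) (by
    intro k g hk hg
    change pr (KrAlg.subL K k g (inc p) - inc p) ∈ Submodule.span K S
    rw [map_sub, KrAlg.subL_eq, hpr, hpi]
    exact Submodule.subset_span ⟨k, g, hk, hg, rfl⟩)
  have h3 : pr (ρ.lTensor K (inc p) - inc p) ∈ Submodule.span K S := h1
  rwa [map_sub, hpr, hpi] at h3

/-- **The Reynolds operator is invariant.** -/
theorem rho_sub (P : Pack a b h m e f ρ) {k : Matrix (Fin b) (Fin b) K} {g : Matrix (Fin a) (Fin a) K}
    (hk : k.det = 1) (hg : g.det = 1) (p : Poly K a b h) : ρ (sub k g p) = ρ p := by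
  obtain ⟨σ, h1, h2⟩ := exists_right K a b h
  have h3 : ∀ q : Poly K a b h, ρ q = σ q := by
    intro q
    have h4 := rho_sub_mem P q
    have h5 : ∀ x ∈ Submodule.span K {x | ∃ (k : Matrix (Fin b) (Fin b) K) (g : Matrix (Fin a) (Fin a) K), k.det = 1 ∧
      g.det = 1 ∧ x = sub k g q - q}, σ x = 0 := by
      intro x hx
      induction hx using Submodule.span_induction with
      | zero => rw [map_zero]
      | add x y _ _ hx hy => rw [map_add, hx, hy, add_zero]
      | smul z x _ hx => rw [map_smul, hx, smul_zero]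
      | mem x hx =>
        obtain ⟨k', g', hk', hg', rfl⟩ := hx
        rw [map_sub, h2 k' g' hk' hg', sub_self]
    have h6 := h5 _ h4
    rw [map_sub, h1 _ (P.ρ_inv q), sub_eq_zero] at h6
    exact h6
  rw [h3, h3, h2 k g hk hg]

end K739.KrRho
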